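import Mathlib.Data.Nat.Notation

/-!
# Certificates for the subgroups of order three of the seven dimensional orthogonal group

A row is a pair of bit sets: the positions of the entries 1 and of the entries 2.
-/

set_option autoImplicit false

namespace CfsgLib.OmegaSeven

/-- A row. -/
abbrev Row := ℕ × ℕ

/-- The matrix of the polar form. -/
def gramC : List Row := [(0,1), (16,0), (32,0), (64,0), (2,0), (4,0), (8,0)]

/-- Root elements, the positive ones first, with their transposes. -/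
def genC : List (List Row × List Row) :=
  [
    ([(17,0), (3,16), (4,0), (8,0), (16,0), (32,0), (64,0)], [(3,0), (2,0), (4,0), (8,0), (17,2), (32,0), (64,0)]),
    ([(33,0), (2,0), (5,32), (8,0), (16,0), (32,0), (64,0)], [(5,0), (2,0), (4,0), (8,0), (16,0), (33,4), (64,0)]),
    ([(65,0), (2,0), (4,0), (9,64), (16,0), (32,0), (64,0)], [(9,0), (2,0), (4,0), (8,0), (16,0), (32,0), (65,8)]),
    ([(1,0), (2,32), (20,0), (8,0), (16,0), (32,0), (64,0)], [(1,0), (2,0), (4,0), (8,0), (20,0), (32,2), (64,0)]),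
    ([(1,0), (2,64), (4,0), (24,0), (16,0), (32,0), (64,0)], [(1,0), (2,0), (4,0), (8,0), (24,0), (32,0), (64,2)]),
    ([(1,0), (2,0), (4,64), (40,0), (16,0), (32,0), (64,0)], [(1,0), (2,0), (4,0), (8,0), (16,0), (40,0), (64,4)]),
    ([(1,0), (2,4), (4,0), (8,0), (16,0), (48,0), (64,0)], [(1,0), (2,0), (4,2), (8,0), (48,0), (32,0), (64,0)]),
    ([(1,0), (2,8), (4,0), (8,0), (16,0), (32,0), (80,0)], [(1,0), (2,0), (4,0), (8,2), (80,0), (32,0), (64,0)]),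
    ([(1,0), (2,0), (4,8), (8,0), (16,0), (32,0), (96,0)], [(1,0), (2,0), (4,0), (8,4), (16,0), (96,0), (64,0)]),
    ([(3,0), (2,0), (4,0), (8,0), (17,2), (32,0), (64,0)], [(17,0), (3,16), (4,0), (8,0), (16,0), (32,0), (64,0)]),
    ([(5,0), (2,0), (4,0), (8,0), (16,0), (33,4), (64,0)], [(33,0), (2,0), (5,32), (8,0), (16,0), (32,0), (64,0)]),
    ([(9,0), (2,0), (4,0), (8,0), (16,0), (32,0), (65,8)], [(65,0), (2,0), (4,0), (9,64), (16,0), (32,0), (64,0)]),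
    ([(1,0), (2,0), (4,0), (8,0), (16,4), (34,0), (64,0)], [(1,0), (34,0), (4,16), (8,0), (16,0), (32,0), (64,0)]),
    ([(1,0), (2,0), (4,0), (8,0), (16,0), (32,8), (68,0)], [(1,0), (2,0), (68,0), (8,32), (16,0), (32,0), (64,0)]),
    ([(1,0), (2,0), (4,0), (8,0), (16,8), (32,0), (66,0)], [(1,0), (66,0), (4,0), (8,16), (16,0), (32,0), (64,0)]),
    ([(1,0), (2,0), (6,0), (8,0), (16,32), (32,0), (64,0)], [(1,0), (6,0), (4,0), (8,0), (16,0), (32,16), (64,0)]),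
    ([(1,0), (2,0), (4,0), (12,0), (16,0), (32,64), (64,0)], [(1,0), (2,0), (12,0), (8,0), (16,0), (32,0), (64,32)]),
    ([(1,0), (2,0), (4,0), (10,0), (16,64), (32,0), (64,0)], [(1,0), (10,0), (4,0), (8,0), (16,0), (32,0), (64,16)])]

/-- Positions of the generators of the radical. -/
def qGenC : List ℕ :=
  [
    0,
    3,
    4,
    6,
    7]

/-- Positions of the generators of the Levi part. -/
def lGenC : List ℕ :=
  [
    1,
    2,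
    5,
    8]

/-- Positions of the Levi root elements. -/
def lAllC : List ℕ :=
  [
    1,
    2,
    5,
    8,
    10,
    11,
    13,
    16]

/-- The radical, with a parent and a generator for each element. -/
def qList : List (List Row × ℕ × ℕ) :=
  [
    ([(1,0), (2,0), (4,0), (8,0), (16,0), (32,0), (64,0)], 0, 0),
    ([(17,0), (3,16), (4,0), (8,0), (16,0), (32,0), (64,0)], 0, 0),
    ([(1,0), (2,32), (20,0), (8,0), (16,0), (32,0), (64,0)], 0, 1),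
    ([(1,0), (2,64), (4,0), (24,0), (16,0), (32,0), (64,0)], 0, 2),
    ([(1,0), (2,4), (4,0), (8,0), (16,0), (48,0), (64,0)], 0, 3),
    ([(1,0), (2,8), (4,0), (8,0), (16,0), (32,0), (80,0)], 0, 4),
    ([(1,16), (2,17), (4,0), (8,0), (16,0), (32,0), (64,0)], 1, 0),
    ([(17,0), (3,48), (20,0), (8,0), (16,0), (32,0), (64,0)], 1, 1),
    ([(17,0), (3,80), (4,0), (24,0), (16,0), (32,0), (64,0)], 1, 2),
    ([(17,0), (3,20), (4,0), (8,0), (16,0), (48,0), (64,0)], 1, 3),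
    ([(17,0), (3,24), (4,0), (8,0), (16,0), (32,0), (80,0)], 1, 4),
    ([(1,0), (34,0), (4,16), (8,0), (16,0), (32,0), (64,0)], 2, 1),
    ([(1,0), (2,96), (20,0), (24,0), (16,0), (32,0), (64,0)], 2, 2),
    ([(1,0), (2,52), (20,0), (8,0), (16,0), (48,0), (64,0)], 2, 3),
    ([(1,0), (2,40), (20,0), (8,0), (16,0), (32,0), (80,0)], 2, 4),
    ([(1,0), (66,0), (4,0), (8,16), (16,0), (32,0), (64,0)], 3, 2),
    ([(1,0), (2,68), (4,0), (24,0), (16,0), (48,0), (64,0)], 3, 3),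
    ([(1,0), (2,88), (4,0), (24,0), (16,0), (32,0), (80,0)], 3, 4),
    ([(1,0), (6,0), (4,0), (8,0), (16,0), (32,16), (64,0)], 4, 3),
    ([(1,0), (2,12), (4,0), (8,0), (16,0), (48,0), (80,0)], 4, 4),
    ([(1,0), (10,0), (4,0), (8,0), (16,0), (32,0), (64,16)], 5, 4),
    ([(1,16), (2,49), (20,0), (8,0), (16,0), (32,0), (64,0)], 6, 1),
    ([(1,16), (2,81), (4,0), (24,0), (16,0), (32,0), (64,0)], 6, 2),
    ([(1,16), (2,21), (4,0), (8,0), (16,0), (48,0), (64,0)], 6, 3),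
    ([(1,16), (2,25), (4,0), (8,0), (16,0), (32,0), (80,0)], 6, 4),
    ([(17,0), (35,16), (4,16), (8,0), (16,0), (32,0), (64,0)], 7, 1),
    ([(17,0), (3,112), (20,0), (24,0), (16,0), (32,0), (64,0)], 7, 2),
    ([(17,0), (19,36), (20,0), (8,0), (16,0), (48,0), (64,0)], 7, 3),
    ([(17,0), (3,56), (20,0), (8,0), (16,0), (32,0), (80,0)], 7, 4),
    ([(17,0), (67,16), (4,0), (8,16), (16,0), (32,0), (64,0)], 8, 2),
    ([(17,0), (3,84), (4,0), (24,0), (16,0), (48,0), (64,0)], 8, 3),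
    ([(17,0), (19,72), (4,0), (24,0), (16,0), (32,0), (80,0)], 8, 4),
    ([(17,0), (7,16), (4,0), (8,0), (16,0), (32,16), (64,0)], 9, 3),
    ([(17,0), (3,28), (4,0), (8,0), (16,0), (48,0), (80,0)], 9, 4),
    ([(17,0), (11,16), (4,0), (8,0), (16,0), (32,0), (64,16)], 10, 4),
    ([(1,0), (34,64), (4,16), (24,0), (16,0), (32,0), (64,0)], 11, 2),
    ([(1,0), (50,4), (4,16), (8,0), (16,0), (48,0), (64,0)], 11, 3),
    ([(1,0), (34,8), (4,16), (8,0), (16,0), (32,0), (80,0)], 11, 4),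
    ([(1,0), (66,32), (20,0), (8,16), (16,0), (32,0), (64,0)], 12, 2),
    ([(1,0), (2,116), (20,0), (24,0), (16,0), (48,0), (64,0)], 12, 3),
    ([(1,0), (2,120), (20,0), (24,0), (16,0), (32,0), (80,0)], 12, 4),
    ([(1,0), (22,32), (20,0), (8,0), (16,0), (32,16), (64,0)], 13, 3),
    ([(1,0), (2,60), (20,0), (8,0), (16,0), (48,0), (80,0)], 13, 4),
    ([(1,0), (10,32), (20,0), (8,0), (16,0), (32,0), (64,16)], 14, 4),
    ([(1,0), (66,4), (4,0), (8,16), (16,0), (48,0), (64,0)], 15, 3),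
    ([(1,0), (82,8), (4,0), (8,16), (16,0), (32,0), (80,0)], 15, 4),
    ([(1,0), (6,64), (4,0), (24,0), (16,0), (32,16), (64,0)], 16, 3),
    ([(1,0), (2,92), (4,0), (24,0), (16,0), (48,0), (80,0)], 16, 4),
    ([(1,0), (26,64), (4,0), (24,0), (16,0), (32,0), (64,16)], 17, 4),
    ([(1,0), (6,8), (4,0), (8,0), (16,0), (32,16), (80,0)], 18, 4),
    ([(1,0), (10,4), (4,0), (8,0), (16,0), (48,0), (64,16)], 19, 4),
    ([(1,16), (34,17), (4,16), (8,0), (16,0), (32,0), (64,0)], 21, 1),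
    ([(1,16), (2,113), (20,0), (24,0), (16,0), (32,0), (64,0)], 21, 2),
    ([(1,16), (18,37), (20,0), (8,0), (16,0), (48,0), (64,0)], 21, 3),
    ([(1,16), (2,57), (20,0), (8,0), (16,0), (32,0), (80,0)], 21, 4),
    ([(1,16), (66,17), (4,0), (8,16), (16,0), (32,0), (64,0)], 22, 2),
    ([(1,16), (2,85), (4,0), (24,0), (16,0), (48,0), (64,0)], 22, 3),
    ([(1,16), (18,73), (4,0), (24,0), (16,0), (32,0), (80,0)], 22, 4),
    ([(1,16), (6,17), (4,0), (8,0), (16,0), (32,16), (64,0)], 23, 3),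
    ([(1,16), (2,29), (4,0), (8,0), (16,0), (48,0), (80,0)], 23, 4),
    ([(1,16), (10,17), (4,0), (8,0), (16,0), (32,0), (64,16)], 24, 4),
    ([(17,0), (35,80), (4,16), (24,0), (16,0), (32,0), (64,0)], 25, 2),
    ([(17,0), (35,4), (4,16), (8,0), (16,0), (48,0), (64,0)], 25, 3),
    ([(17,0), (35,24), (4,16), (8,0), (16,0), (32,0), (80,0)], 25, 4),
    ([(17,0), (67,48), (20,0), (8,16), (16,0), (32,0), (64,0)], 26, 2),
    ([(17,0), (19,100), (20,0), (24,0), (16,0), (48,0), (64,0)], 26, 3),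
    ([(17,0), (19,104), (20,0), (24,0), (16,0), (32,0), (80,0)], 26, 4),
    ([(17,0), (7,32), (20,0), (8,0), (16,0), (32,16), (64,0)], 27, 3),
    ([(17,0), (19,44), (20,0), (8,0), (16,0), (48,0), (80,0)], 27, 4),
    ([(17,0), (11,48), (20,0), (8,0), (16,0), (32,0), (64,16)], 28, 4),
    ([(17,0), (67,20), (4,0), (8,16), (16,0), (48,0), (64,0)], 29, 3),
    ([(17,0), (67,8), (4,0), (8,16), (16,0), (32,0), (80,0)], 29, 4),
    ([(17,0), (7,80), (4,0), (24,0), (16,0), (32,16), (64,0)], 30, 3),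
    ([(17,0), (19,76), (4,0), (24,0), (16,0), (48,0), (80,0)], 30, 4),
    ([(17,0), (11,64), (4,0), (24,0), (16,0), (32,0), (64,16)], 31, 4),
    ([(17,0), (7,24), (4,0), (8,0), (16,0), (32,16), (80,0)], 32, 4),
    ([(17,0), (11,20), (4,0), (8,0), (16,0), (48,0), (64,16)], 33, 4),
    ([(1,0), (98,0), (4,16), (8,16), (16,0), (32,0), (64,0)], 35, 2),
    ([(1,0), (50,68), (4,16), (24,0), (16,0), (48,0), (64,0)], 35, 3),
    ([(1,0), (34,88), (4,16), (24,0), (16,0), (32,0), (80,0)], 35, 4),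
    ([(1,0), (38,16), (4,16), (8,0), (16,0), (32,16), (64,0)], 36, 3),
    ([(1,0), (50,12), (4,16), (8,0), (16,0), (48,0), (80,0)], 36, 4),
    ([(1,0), (42,0), (4,16), (8,0), (16,0), (32,0), (64,16)], 37, 4),
    ([(1,0), (66,52), (20,0), (8,16), (16,0), (48,0), (64,0)], 38, 3),
    ([(1,0), (82,40), (20,0), (8,16), (16,0), (32,0), (80,0)], 38, 4),
    ([(1,0), (22,96), (20,0), (24,0), (16,0), (32,16), (64,0)], 39, 3),
    ([(1,0), (18,108), (20,0), (24,0), (16,0), (48,0), (80,0)], 39, 4),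
    ([(1,0), (26,96), (20,0), (24,0), (16,0), (32,0), (64,16)], 40, 4),
    ([(1,0), (22,40), (20,0), (8,0), (16,0), (32,16), (80,0)], 41, 4),
    ([(1,0), (10,52), (20,0), (8,0), (16,0), (48,0), (64,16)], 42, 4),
    ([(1,0), (70,0), (4,0), (8,16), (16,0), (32,16), (64,0)], 44, 3),
    ([(1,0), (82,12), (4,0), (8,16), (16,0), (48,0), (80,0)], 44, 4),
    ([(1,0), (74,16), (4,0), (8,16), (16,0), (32,0), (64,16)], 45, 4),
    ([(1,0), (6,88), (4,0), (24,0), (16,0), (32,16), (80,0)], 46, 4),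
    ([(1,0), (26,68), (4,0), (24,0), (16,0), (48,0), (64,16)], 47, 4),
    ([(1,0), (14,0), (4,0), (8,0), (16,0), (32,16), (64,16)], 49, 4),
    ([(1,16), (34,81), (4,16), (24,0), (16,0), (32,0), (64,0)], 51, 2),
    ([(1,16), (34,5), (4,16), (8,0), (16,0), (48,0), (64,0)], 51, 3),
    ([(1,16), (34,25), (4,16), (8,0), (16,0), (32,0), (80,0)], 51, 4),
    ([(1,16), (66,49), (20,0), (8,16), (16,0), (32,0), (64,0)], 52, 2),
    ([(1,16), (18,101), (20,0), (24,0), (16,0), (48,0), (64,0)], 52, 3),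
    ([(1,16), (18,105), (20,0), (24,0), (16,0), (32,0), (80,0)], 52, 4),
    ([(1,16), (6,33), (20,0), (8,0), (16,0), (32,16), (64,0)], 53, 3),
    ([(1,16), (18,45), (20,0), (8,0), (16,0), (48,0), (80,0)], 53, 4),
    ([(1,16), (10,49), (20,0), (8,0), (16,0), (32,0), (64,16)], 54, 4),
    ([(1,16), (66,21), (4,0), (8,16), (16,0), (48,0), (64,0)], 55, 3),
    ([(1,16), (66,9), (4,0), (8,16), (16,0), (32,0), (80,0)], 55, 4),
    ([(1,16), (6,81), (4,0), (24,0), (16,0), (32,16), (64,0)], 56, 3),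
    ([(1,16), (18,77), (4,0), (24,0), (16,0), (48,0), (80,0)], 56, 4),
    ([(1,16), (10,65), (4,0), (24,0), (16,0), (32,0), (64,16)], 57, 4),
    ([(1,16), (6,25), (4,0), (8,0), (16,0), (32,16), (80,0)], 58, 4),
    ([(1,16), (10,21), (4,0), (8,0), (16,0), (48,0), (64,16)], 59, 4),
    ([(17,0), (99,16), (4,16), (8,16), (16,0), (32,0), (64,0)], 61, 2),
    ([(17,0), (35,68), (4,16), (24,0), (16,0), (48,0), (64,0)], 61, 3),
    ([(17,0), (51,72), (4,16), (24,0), (16,0), (32,0), (80,0)], 61, 4),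
    ([(17,0), (55,0), (4,16), (8,0), (16,0), (32,16), (64,0)], 62, 3),
    ([(17,0), (35,12), (4,16), (8,0), (16,0), (48,0), (80,0)], 62, 4),
    ([(17,0), (43,16), (4,16), (8,0), (16,0), (32,0), (64,16)], 63, 4),
    ([(17,0), (83,36), (20,0), (8,16), (16,0), (48,0), (64,0)], 64, 3),
    ([(17,0), (67,40), (20,0), (8,16), (16,0), (32,0), (80,0)], 64, 4),
    ([(17,0), (7,96), (20,0), (24,0), (16,0), (32,16), (64,0)], 65, 3),
    ([(17,0), (3,108), (20,0), (24,0), (16,0), (48,0), (80,0)], 65, 4),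
    ([(17,0), (11,96), (20,0), (24,0), (16,0), (32,0), (64,16)], 66, 4),
    ([(17,0), (7,40), (20,0), (8,0), (16,0), (32,16), (80,0)], 67, 4),
    ([(17,0), (27,36), (20,0), (8,0), (16,0), (48,0), (64,16)], 68, 4),
    ([(17,0), (71,16), (4,0), (8,16), (16,0), (32,16), (64,0)], 70, 3),
    ([(17,0), (67,12), (4,0), (8,16), (16,0), (48,0), (80,0)], 70, 4),
    ([(17,0), (91,0), (4,0), (8,16), (16,0), (32,0), (64,16)], 71, 4),
    ([(17,0), (23,72), (4,0), (24,0), (16,0), (32,16), (80,0)], 72, 4),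
    ([(17,0), (11,68), (4,0), (24,0), (16,0), (48,0), (64,16)], 73, 4),
    ([(17,0), (15,16), (4,0), (8,0), (16,0), (32,16), (64,16)], 75, 4),
    ([(1,0), (114,4), (4,16), (8,16), (16,0), (48,0), (64,0)], 77, 3),
    ([(1,0), (114,8), (4,16), (8,16), (16,0), (32,0), (80,0)], 77, 4),
    ([(1,0), (38,80), (4,16), (24,0), (16,0), (32,16), (64,0)], 78, 3),
    ([(1,0), (34,76), (4,16), (24,0), (16,0), (48,0), (80,0)], 78, 4),
    ([(1,0), (58,64), (4,16), (24,0), (16,0), (32,0), (64,16)], 79, 4),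
    ([(1,0), (38,24), (4,16), (8,0), (16,0), (32,16), (80,0)], 80, 4),
    ([(1,0), (58,4), (4,16), (8,0), (16,0), (48,0), (64,16)], 81, 4),
    ([(1,0), (86,32), (20,0), (8,16), (16,0), (32,16), (64,0)], 83, 3),
    ([(1,0), (66,44), (20,0), (8,16), (16,0), (48,0), (80,0)], 83, 4),
    ([(1,0), (74,48), (20,0), (8,16), (16,0), (32,0), (64,16)], 84, 4),
    ([(1,0), (6,104), (20,0), (24,0), (16,0), (32,16), (80,0)], 85, 4),
    ([(1,0), (10,100), (20,0), (24,0), (16,0), (48,0), (64,16)], 86, 4),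
    ([(1,0), (30,32), (20,0), (8,0), (16,0), (32,16), (64,16)], 88, 4),
    ([(1,0), (86,8), (4,0), (8,16), (16,0), (32,16), (80,0)], 90, 4),
    ([(1,0), (74,20), (4,0), (8,16), (16,0), (48,0), (64,16)], 91, 4),
    ([(1,0), (30,64), (4,0), (24,0), (16,0), (32,16), (64,16)], 93, 4),
    ([(1,16), (98,17), (4,16), (8,16), (16,0), (32,0), (64,0)], 96, 2),
    ([(1,16), (34,69), (4,16), (24,0), (16,0), (48,0), (64,0)], 96, 3),
    ([(1,16), (50,73), (4,16), (24,0), (16,0), (32,0), (80,0)], 96, 4),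
    ([(1,16), (54,1), (4,16), (8,0), (16,0), (32,16), (64,0)], 97, 3),
    ([(1,16), (34,13), (4,16), (8,0), (16,0), (48,0), (80,0)], 97, 4),
    ([(1,16), (42,17), (4,16), (8,0), (16,0), (32,0), (64,16)], 98, 4),
    ([(1,16), (82,37), (20,0), (8,16), (16,0), (48,0), (64,0)], 99, 3),
    ([(1,16), (66,41), (20,0), (8,16), (16,0), (32,0), (80,0)], 99, 4),
    ([(1,16), (6,97), (20,0), (24,0), (16,0), (32,16), (64,0)], 100, 3),
    ([(1,16), (2,109), (20,0), (24,0), (16,0), (48,0), (80,0)], 100, 4),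
    ([(1,16), (10,97), (20,0), (24,0), (16,0), (32,0), (64,16)], 101, 4),
    ([(1,16), (6,41), (20,0), (8,0), (16,0), (32,16), (80,0)], 102, 4),
    ([(1,16), (26,37), (20,0), (8,0), (16,0), (48,0), (64,16)], 103, 4),
    ([(1,16), (70,17), (4,0), (8,16), (16,0), (32,16), (64,0)], 105, 3),
    ([(1,16), (66,13), (4,0), (8,16), (16,0), (48,0), (80,0)], 105, 4),
    ([(1,16), (90,1), (4,0), (8,16), (16,0), (32,0), (64,16)], 106, 4),
    ([(1,16), (22,73), (4,0), (24,0), (16,0), (32,16), (80,0)], 107, 4),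
    ([(1,16), (10,69), (4,0), (24,0), (16,0), (48,0), (64,16)], 108, 4),
    ([(1,16), (14,17), (4,0), (8,0), (16,0), (32,16), (64,16)], 110, 4),
    ([(17,0), (99,4), (4,16), (8,16), (16,0), (48,0), (64,0)], 112, 3),
    ([(17,0), (99,8), (4,16), (8,16), (16,0), (32,0), (80,0)], 112, 4),
    ([(17,0), (55,64), (4,16), (24,0), (16,0), (32,16), (64,0)], 113, 3),
    ([(17,0), (35,92), (4,16), (24,0), (16,0), (48,0), (80,0)], 113, 4),
    ([(17,0), (43,64), (4,16), (24,0), (16,0), (32,0), (64,16)], 114, 4),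
    ([(17,0), (55,8), (4,16), (8,0), (16,0), (32,16), (80,0)], 115, 4),
    ([(17,0), (43,4), (4,16), (8,0), (16,0), (48,0), (64,16)], 116, 4),
    ([(17,0), (71,32), (20,0), (8,16), (16,0), (32,16), (64,0)], 118, 3),
    ([(17,0), (67,60), (20,0), (8,16), (16,0), (48,0), (80,0)], 118, 4),
    ([(17,0), (91,32), (20,0), (8,16), (16,0), (32,0), (64,16)], 119, 4),
    ([(17,0), (7,120), (20,0), (24,0), (16,0), (32,16), (80,0)], 120, 4),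
    ([(17,0), (11,116), (20,0), (24,0), (16,0), (48,0), (64,16)], 121, 4),
    ([(17,0), (15,32), (20,0), (8,0), (16,0), (32,16), (64,16)], 123, 4),
    ([(17,0), (71,8), (4,0), (8,16), (16,0), (32,16), (80,0)], 125, 4),
    ([(17,0), (91,4), (4,0), (8,16), (16,0), (48,0), (64,16)], 126, 4),
    ([(17,0), (15,64), (4,0), (24,0), (16,0), (32,16), (64,16)], 128, 4),
    ([(1,0), (102,16), (4,16), (8,16), (16,0), (32,16), (64,0)], 131, 3),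
    ([(1,0), (98,28), (4,16), (8,16), (16,0), (48,0), (80,0)], 131, 4),
    ([(1,0), (106,16), (4,16), (8,16), (16,0), (32,0), (64,16)], 132, 4),
    ([(1,0), (54,72), (4,16), (24,0), (16,0), (32,16), (80,0)], 133, 4),
    ([(1,0), (42,84), (4,16), (24,0), (16,0), (48,0), (64,16)], 134, 4),
    ([(1,0), (46,16), (4,16), (8,0), (16,0), (32,16), (64,16)], 136, 4),
    ([(1,0), (70,56), (20,0), (8,16), (16,0), (32,16), (80,0)], 138, 4),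
    ([(1,0), (90,36), (20,0), (8,16), (16,0), (48,0), (64,16)], 139, 4),
    ([(1,0), (14,112), (20,0), (24,0), (16,0), (32,16), (64,16)], 141, 4),
    ([(1,0), (78,16), (4,0), (8,16), (16,0), (32,16), (64,16)], 144, 4),
    ([(1,16), (98,5), (4,16), (8,16), (16,0), (48,0), (64,0)], 147, 3),
    ([(1,16), (98,9), (4,16), (8,16), (16,0), (32,0), (80,0)], 147, 4),
    ([(1,16), (54,65), (4,16), (24,0), (16,0), (32,16), (64,0)], 148, 3),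
    ([(1,16), (34,93), (4,16), (24,0), (16,0), (48,0), (80,0)], 148, 4),
    ([(1,16), (42,65), (4,16), (24,0), (16,0), (32,0), (64,16)], 149, 4),
    ([(1,16), (54,9), (4,16), (8,0), (16,0), (32,16), (80,0)], 150, 4),
    ([(1,16), (42,5), (4,16), (8,0), (16,0), (48,0), (64,16)], 151, 4),
    ([(1,16), (70,33), (20,0), (8,16), (16,0), (32,16), (64,0)], 153, 3),
    ([(1,16), (66,61), (20,0), (8,16), (16,0), (48,0), (80,0)], 153, 4),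
    ([(1,16), (90,33), (20,0), (8,16), (16,0), (32,0), (64,16)], 154, 4),
    ([(1,16), (6,121), (20,0), (24,0), (16,0), (32,16), (80,0)], 155, 4),
    ([(1,16), (10,117), (20,0), (24,0), (16,0), (48,0), (64,16)], 156, 4),
    ([(1,16), (14,33), (20,0), (8,0), (16,0), (32,16), (64,16)], 158, 4),
    ([(1,16), (70,9), (4,0), (8,16), (16,0), (32,16), (80,0)], 160, 4),
    ([(1,16), (90,5), (4,0), (8,16), (16,0), (48,0), (64,16)], 161, 4),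
    ([(1,16), (14,65), (4,0), (24,0), (16,0), (32,16), (64,16)], 163, 4),
    ([(17,0), (119,0), (4,16), (8,16), (16,0), (32,16), (64,0)], 166, 3),
    ([(17,0), (115,12), (4,16), (8,16), (16,0), (48,0), (80,0)], 166, 4),
    ([(17,0), (123,0), (4,16), (8,16), (16,0), (32,0), (64,16)], 167, 4),
    ([(17,0), (39,72), (4,16), (24,0), (16,0), (32,16), (80,0)], 168, 4),
    ([(17,0), (59,68), (4,16), (24,0), (16,0), (48,0), (64,16)], 169, 4),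
    ([(17,0), (63,0), (4,16), (8,0), (16,0), (32,16), (64,16)], 171, 4),
    ([(17,0), (87,40), (20,0), (8,16), (16,0), (32,16), (80,0)], 173, 4),
    ([(17,0), (75,36), (20,0), (8,16), (16,0), (48,0), (64,16)], 174, 4),
    ([(17,0), (31,96), (20,0), (24,0), (16,0), (32,16), (64,16)], 176, 4),
    ([(17,0), (95,0), (4,0), (8,16), (16,0), (32,16), (64,16)], 179, 4),
    ([(1,0), (102,8), (4,16), (8,16), (16,0), (32,16), (80,0)], 182, 4),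
    ([(1,0), (106,4), (4,16), (8,16), (16,0), (48,0), (64,16)], 183, 4),
    ([(1,0), (46,64), (4,16), (24,0), (16,0), (32,16), (64,16)], 185, 4),
    ([(1,0), (78,32), (20,0), (8,16), (16,0), (32,16), (64,16)], 188, 4),
    ([(1,16), (118,1), (4,16), (8,16), (16,0), (32,16), (64,0)], 192, 3),
    ([(1,16), (114,13), (4,16), (8,16), (16,0), (48,0), (80,0)], 192, 4),
    ([(1,16), (122,1), (4,16), (8,16), (16,0), (32,0), (64,16)], 193, 4),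
    ([(1,16), (38,73), (4,16), (24,0), (16,0), (32,16), (80,0)], 194, 4),
    ([(1,16), (58,69), (4,16), (24,0), (16,0), (48,0), (64,16)], 195, 4),
    ([(1,16), (62,1), (4,16), (8,0), (16,0), (32,16), (64,16)], 197, 4),
    ([(1,16), (86,41), (20,0), (8,16), (16,0), (32,16), (80,0)], 199, 4),
    ([(1,16), (74,37), (20,0), (8,16), (16,0), (48,0), (64,16)], 200, 4),
    ([(1,16), (30,97), (20,0), (24,0), (16,0), (32,16), (64,16)], 202, 4),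
    ([(1,16), (94,1), (4,0), (8,16), (16,0), (32,16), (64,16)], 205, 4),
    ([(17,0), (103,24), (4,16), (8,16), (16,0), (32,16), (80,0)], 208, 4),
    ([(17,0), (107,20), (4,16), (8,16), (16,0), (48,0), (64,16)], 209, 4),
    ([(17,0), (47,80), (4,16), (24,0), (16,0), (32,16), (64,16)], 211, 4),
    ([(17,0), (79,48), (20,0), (8,16), (16,0), (32,16), (64,16)], 214, 4),
    ([(1,0), (126,0), (4,16), (8,16), (16,0), (32,16), (64,16)], 218, 4),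
    ([(1,16), (102,25), (4,16), (8,16), (16,0), (32,16), (80,0)], 222, 4),
    ([(1,16), (106,21), (4,16), (8,16), (16,0), (48,0), (64,16)], 223, 4),
    ([(1,16), (46,81), (4,16), (24,0), (16,0), (32,16), (64,16)], 225, 4),
    ([(1,16), (78,49), (20,0), (8,16), (16,0), (32,16), (64,16)], 228, 4),
    ([(17,0), (111,0), (4,16), (8,16), (16,0), (32,16), (64,16)], 232, 4),
    ([(1,16), (110,1), (4,16), (8,16), (16,0), (32,16), (64,16)], 237, 4)]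

/-- The Levi part of the Sylow subgroup. -/
def lList : List (List Row × ℕ × ℕ) :=
  [
    ([(1,0), (2,0), (4,0), (8,0), (16,0), (32,0), (64,0)], 0, 0),
    ([(33,0), (2,0), (5,32), (8,0), (16,0), (32,0), (64,0)], 0, 0),
    ([(65,0), (2,0), (4,0), (9,64), (16,0), (32,0), (64,0)], 0, 1),
    ([(1,0), (2,0), (4,64), (40,0), (16,0), (32,0), (64,0)], 0, 2),
    ([(1,0), (2,0), (4,8), (8,0), (16,0), (32,0), (96,0)], 0, 3),
    ([(1,32), (2,0), (4,33), (8,0), (16,0), (32,0), (64,0)], 1, 0),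
    ([(97,0), (2,0), (69,32), (9,64), (16,0), (32,0), (64,0)], 1, 1),
    ([(33,0), (2,0), (5,96), (40,0), (16,0), (32,0), (64,0)], 1, 2),
    ([(33,0), (2,0), (5,40), (8,0), (16,0), (32,0), (96,0)], 1, 3),
    ([(97,0), (2,0), (5,32), (41,64), (16,0), (32,0), (64,0)], 2, 0),
    ([(1,64), (2,0), (4,0), (8,65), (16,0), (32,0), (64,0)], 2, 1),
    ([(65,0), (2,0), (4,64), (41,64), (16,0), (32,0), (64,0)], 2, 2),
    ([(97,0), (2,0), (4,8), (9,96), (16,0), (32,0), (96,0)], 2, 3),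
    ([(1,0), (2,0), (68,0), (8,32), (16,0), (32,0), (64,0)], 3, 2),
    ([(1,0), (2,0), (4,104), (40,0), (16,0), (32,0), (96,0)], 3, 3),
    ([(65,0), (2,0), (68,9), (9,64), (16,0), (32,0), (96,0)], 4, 1),
    ([(1,0), (2,0), (12,0), (8,0), (16,0), (32,0), (64,32)], 4, 3),
    ([(65,32), (2,0), (4,97), (9,64), (16,0), (32,0), (64,0)], 5, 1),
    ([(1,32), (2,0), (4,97), (40,0), (16,0), (32,0), (64,0)], 5, 2),
    ([(1,32), (2,0), (4,41), (8,0), (16,0), (32,0), (96,0)], 5, 3),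
    ([(65,32), (2,0), (68,33), (41,64), (16,0), (32,0), (64,0)], 6, 0),
    ([(33,64), (2,0), (5,96), (8,65), (16,0), (32,0), (64,0)], 6, 1),
    ([(65,32), (2,0), (69,8), (9,96), (16,0), (32,0), (96,0)], 6, 3),
    ([(33,0), (2,0), (69,32), (8,32), (16,0), (32,0), (64,0)], 7, 2),
    ([(33,0), (2,0), (37,72), (40,0), (16,0), (32,0), (96,0)], 7, 3),
    ([(97,0), (2,0), (4,104), (9,64), (16,0), (32,0), (96,0)], 8, 1),
    ([(33,0), (2,0), (13,32), (8,0), (16,0), (32,0), (64,32)], 8, 3),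
    ([(65,32), (2,0), (4,33), (9,96), (16,0), (32,0), (64,0)], 9, 0),
    ([(33,64), (2,0), (69,32), (40,65), (16,0), (32,0), (64,0)], 9, 1),
    ([(97,0), (2,0), (5,96), (9,96), (16,0), (32,0), (64,0)], 9, 2),
    ([(65,32), (2,0), (5,40), (9,64), (16,0), (32,0), (96,0)], 9, 3),
    ([(33,64), (2,0), (5,32), (8,97), (16,0), (32,0), (64,0)], 10, 0),
    ([(1,64), (2,0), (4,64), (40,65), (16,0), (32,0), (64,0)], 10, 2),
    ([(1,96), (2,0), (4,8), (8,97), (16,0), (32,0), (96,0)], 10, 3),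
    ([(65,0), (2,0), (68,0), (9,96), (16,0), (32,0), (64,0)], 11, 2),
    ([(33,64), (2,0), (68,9), (8,97), (16,0), (32,0), (96,0)], 12, 1),
    ([(65,32), (2,0), (12,0), (41,64), (16,0), (32,0), (64,32)], 12, 3),
    ([(1,0), (2,0), (100,8), (8,32), (16,0), (32,0), (96,0)], 13, 3),
    ([(65,0), (2,0), (4,41), (41,64), (16,0), (32,0), (96,0)], 14, 1),
    ([(1,0), (2,0), (44,64), (40,0), (16,0), (32,0), (64,32)], 14, 3),
    ([(97,0), (2,0), (100,8), (41,64), (16,0), (32,0), (96,0)], 15, 0),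
    ([(1,64), (2,0), (69,8), (8,65), (16,0), (32,0), (96,0)], 15, 1),
    ([(97,0), (2,0), (108,1), (9,96), (16,0), (32,0), (64,32)], 15, 3),
    ([(65,0), (2,0), (13,64), (9,64), (16,0), (32,0), (64,32)], 16, 1),
    ([(1,96), (2,0), (68,33), (8,65), (16,0), (32,0), (64,0)], 17, 1),
    ([(65,0), (2,0), (36,73), (9,96), (16,0), (32,0), (96,0)], 17, 3),
    ([(1,32), (2,0), (68,33), (8,32), (16,0), (32,0), (64,0)], 18, 2),
    ([(1,32), (2,0), (36,73), (40,0), (16,0), (32,0), (96,0)], 18, 3),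
    ([(1,32), (2,0), (12,33), (8,0), (16,0), (32,0), (64,32)], 19, 3),
    ([(1,96), (2,0), (4,33), (40,65), (16,0), (32,0), (64,0)], 20, 1),
    ([(1,96), (2,0), (4,97), (8,97), (16,0), (32,0), (64,0)], 21, 0),
    ([(1,64), (2,0), (37,72), (8,97), (16,0), (32,0), (96,0)], 21, 3),
    ([(65,0), (2,0), (109,0), (41,64), (16,0), (32,0), (64,32)], 22, 3),
    ([(33,0), (2,0), (69,8), (8,32), (16,0), (32,0), (96,0)], 23, 3),
    ([(33,0), (2,0), (13,64), (40,0), (16,0), (32,0), (64,32)], 24, 3),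
    ([(65,32), (2,0), (37,72), (41,64), (16,0), (32,0), (96,0)], 25, 0),
    ([(33,64), (2,0), (4,41), (8,65), (16,0), (32,0), (96,0)], 25, 1),
    ([(65,32), (2,0), (44,64), (9,96), (16,0), (32,0), (64,32)], 25, 3),
    ([(97,0), (2,0), (12,33), (9,64), (16,0), (32,0), (64,32)], 26, 1),
    ([(1,96), (2,0), (4,104), (8,65), (16,0), (32,0), (96,0)], 30, 1),
    ([(65,0), (2,0), (13,32), (9,96), (16,0), (32,0), (64,32)], 30, 3),
    ([(1,64), (2,0), (5,40), (40,65), (16,0), (32,0), (96,0)], 31, 3),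
    ([(1,64), (2,0), (68,0), (8,97), (16,0), (32,0), (64,0)], 32, 2),
    ([(1,32), (2,0), (68,9), (8,32), (16,0), (32,0), (96,0)], 33, 1),
    ([(33,64), (2,0), (12,0), (40,65), (16,0), (32,0), (64,32)], 33, 3),
    ([(1,96), (2,0), (100,8), (40,65), (16,0), (32,0), (96,0)], 35, 0),
    ([(1,64), (2,0), (108,1), (40,65), (16,0), (32,0), (64,32)], 35, 3),
    ([(1,96), (2,0), (13,64), (40,65), (16,0), (32,0), (64,32)], 36, 1),
    ([(1,0), (2,0), (76,32), (8,32), (16,0), (32,0), (64,32)], 37, 3),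
    ([(33,64), (2,0), (36,73), (40,65), (16,0), (32,0), (96,0)], 40, 1),
    ([(65,32), (2,0), (76,32), (9,64), (16,0), (32,0), (64,32)], 40, 3),
    ([(1,96), (2,0), (109,0), (8,97), (16,0), (32,0), (64,32)], 41, 3),
    ([(33,64), (2,0), (44,64), (8,97), (16,0), (32,0), (64,32)], 42, 1),
    ([(97,0), (2,0), (12,65), (41,64), (16,0), (32,0), (64,32)], 43, 0),
    ([(1,64), (2,0), (12,65), (8,65), (16,0), (32,0), (64,32)], 43, 1),
    ([(1,32), (2,0), (12,65), (40,0), (16,0), (32,0), (64,32)], 47, 3),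
    ([(33,0), (2,0), (109,0), (8,32), (16,0), (32,0), (64,32)], 53, 3),
    ([(1,64), (2,0), (12,33), (8,97), (16,0), (32,0), (64,32)], 56, 3),
    ([(33,64), (2,0), (76,32), (8,65), (16,0), (32,0), (64,32)], 58, 1),
    ([(1,96), (2,0), (13,32), (8,65), (16,0), (32,0), (64,32)], 61, 3),
    ([(1,32), (2,0), (108,1), (8,32), (16,0), (32,0), (64,32)], 63, 3)]

/-- Representatives of the Levi part. -/
def jList : List (List Row) :=
  [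
    [(1,0), (2,0), (4,0), (8,0), (16,0), (32,0), (64,0)],
    [(1,0), (2,0), (4,64), (40,0), (16,0), (32,0), (64,0)],
    [(33,0), (2,0), (5,32), (8,0), (16,0), (32,0), (64,0)],
    [(1,0), (2,0), (100,8), (8,32), (16,0), (32,0), (96,0)]]

/-- For each Levi element a word, a representative and an exponent. -/
def lCert : List (List ℕ × ℕ × ℕ) :=
  [
    ([], 0, 1),
    ([], 2, 1),
    ([7,3], 2, 2),
    ([], 1, 1),
    ([5,1], 1, 2),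
    ([], 2, 2),
    ([1,1,7,7], 2, 1),
    ([1,1], 2, 1),
    ([5,5], 2, 1),
    ([1,7,7], 2, 1),
    ([7,3], 2, 1),
    ([1,7,3], 2, 2),
    ([], 0, 0),
    ([], 1, 2),
    ([1,5,5], 2, 2),
    ([], 0, 0),
    ([5,1], 1, 1),
    ([1,1,7], 2, 2),
    ([1], 2, 2),
    ([5], 2, 2),
    ([7], 2, 2),
    ([1,7], 2, 1),
    ([], 0, 0),
    ([1], 2, 1),
    ([1,1], 3, 1),
    ([], 0, 0),
    ([5], 2, 1),
    ([1,7], 2, 2),
    ([7], 2, 1),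
    ([7,7], 2, 1),
    ([], 0, 0),
    ([1,1,7], 2, 1),
    ([1,7,7,3,3], 2, 2),
    ([], 0, 0),
    ([1,7,7,3,3], 2, 1),
    ([], 0, 0),
    ([], 0, 0),
    ([], 3, 1),
    ([], 0, 0),
    ([], 3, 2),
    ([], 0, 0),
    ([], 0, 0),
    ([], 0, 0),
    ([], 0, 0),
    ([1,7,7], 2, 2),
    ([], 0, 0),
    ([1,1], 2, 2),
    ([1], 3, 1),
    ([5,5], 2, 2),
    ([1,1,7,7], 2, 2),
    ([7,7], 2, 2),
    ([], 0, 0),
    ([], 0, 0),
    ([5], 1, 2),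
    ([5,5], 1, 1),
    ([], 0, 0),
    ([], 0, 0),
    ([], 0, 0),
    ([], 0, 0),
    ([], 0, 0),
    ([], 0, 0),
    ([], 0, 0),
    ([1,7,3], 2, 1),
    ([5,5], 1, 2),
    ([], 0, 0),
    ([], 0, 0),
    ([], 0, 0),
    ([], 0, 0),
    ([1,5,5], 2, 1),
    ([], 0, 0),
    ([], 0, 0),
    ([], 0, 0),
    ([], 0, 0),
    ([], 0, 0),
    ([], 0, 0),
    ([5], 1, 1),
    ([1], 3, 2),
    ([], 0, 0),
    ([], 0, 0),
    ([], 0, 0),
    ([1,1], 3, 2)]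

/-- The seven representatives, with their transposes. -/
def repC : List (List Row × List Row) :=
  [
    ([(1,0), (2,0), (4,64), (40,0), (16,0), (32,0), (64,0)], [(1,0), (2,0), (4,0), (8,0), (16,0), (40,0), (64,4)]),
    ([(65,0), (2,0), (4,0), (9,64), (16,0), (32,0), (64,0)], [(9,0), (2,0), (4,0), (8,0), (16,0), (32,0), (65,8)]),
    ([(1,0), (2,0), (44,64), (40,0), (16,0), (32,0), (64,32)], [(1,0), (2,0), (4,0), (12,0), (16,0), (44,64), (64,4)]),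
    ([(1,0), (34,64), (12,0), (24,0), (16,0), (32,0), (64,32)], [(1,0), (2,0), (4,0), (12,0), (24,0), (34,64), (64,2)]),
    ([(65,0), (2,32), (20,0), (9,64), (16,0), (32,0), (64,0)], [(9,0), (2,0), (4,0), (8,0), (20,0), (32,2), (65,8)]),
    ([(65,0), (34,0), (4,16), (9,64), (16,0), (32,0), (64,0)], [(9,0), (2,0), (4,0), (8,0), (16,4), (34,0), (65,8)]),
    ([(65,0), (38,16), (4,16), (9,64), (16,0), (32,16), (64,0)], [(9,0), (2,0), (6,0), (8,0), (16,38), (34,0), (65,8)])]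

/-- Certificates for the elements over the representative 0. -/
def cand0 : List (List ℕ × ℕ × ℕ) :=
  [
    ([], 0, 3),
    ([7,17,7], 1, 1),
    ([7,17,7], 0, 2),
    ([6,15,6], 0, 1),
    ([6,15,6,5,13,5], 0, 1),
    ([2,11,2,6,15,6], 0, 2),
    ([7,17,7], 1, 2),
    ([7,1,17,1], 1, 1),
    ([0,7,17,7], 1, 1),
    ([7,17,7,10,10], 1, 1),
    ([7,17,7,11,11], 1, 1),
    ([7,17,7], 0, 1),
    ([6,6,7,17,7], 0, 2),
    ([1,7,17,7,10,10], 1, 2),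
    ([7,17,7,13,13], 0, 2),
    ([6,15,6], 0, 2),
    ([6,15,6,13], 0, 1),
    ([0,7,17,7,11], 1, 1),
    ([6,15,6,5,13,5], 0, 2),
    ([6,7,15,7,5,13,5], 0, 1),
    ([2,11,2,6,15,6], 0, 1),
    ([1,7,17,7], 1, 2),
    ([0,0,7,17,7], 1, 2),
    ([7,17,7,10], 1, 2),
    ([7,17,7,11], 1, 2),
    ([1,7,17,7], 1, 1),
    ([7,17,7,1,16,1], 1, 1),
    ([6,2,15,2,5,13,5], 2, 2),
    ([7,17,7,1,13,1], 1, 1),
    ([0,0,7,17,7], 1, 1),
    ([0,7,17,7,13], 1, 1),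
    ([6,2,15,2], 2, 2),
    ([7,17,7,10], 1, 1),
    ([7,17,7,10,10,8,8], 1, 1),
    ([7,17,7,11], 1, 1),
    ([6,7,15,7], 0, 1),
    ([6,15,6,5,13,5], 2, 1),
    ([7,17,7,13], 0, 1),
    ([6,7,15,7], 0, 2),
    ([0,15,0,7,17,7,2,10,2], 1, 1),
    ([0,7,17,7,5,11,5], 1, 1),
    ([6,15,6,5,13,5], 2, 2),
    ([7,17,7,1,11,1,8,10,8], 1, 1),
    ([7,17,7,13], 0, 2),
    ([6,15,6,13,13], 0, 2),
    ([6,15,6], 2, 2),
    ([6,15,6,13,13], 0, 1),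
    ([0,7,17,7,1,13,1], 1, 1),
    ([6,15,6], 2, 1),
    ([6,6,7,17,7,5,13,5], 0, 1),
    ([6,6,7,17,7,5,13,5], 0, 2),
    ([7,1,17,1], 1, 2),
    ([1,0,0,7,17,7], 1, 2),
    ([2,6,15,6,5,13,5], 2, 2),
    ([7,17,7,5,11,5], 1, 2),
    ([0,7,17,7], 1, 2),
    ([0,7,17,7,2,10,2], 1, 2),
    ([2,6,15,6], 2, 2),
    ([7,17,7,10,10], 1, 2),
    ([0,15,0,7,17,7,5,13,5], 1, 2),
    ([7,17,7,11,11], 1, 2),
    ([0,1,7,17,7], 1, 1),
    ([7,17,7,10], 0, 1),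
    ([1,7,17,7,13], 1, 1),
    ([0,15,0,7,17,7], 1, 1),
    ([2,6,15,6,1,13,1], 2, 2),
    ([2,4,9,4,6,15,6], 2, 2),
    ([7,17,7,10,10], 0, 2),
    ([2,6,15,6,1,16,1], 2, 2),
    ([7,17,7,1,11,1], 1, 1),
    ([0,0,7,17,7,10,10], 1, 1),
    ([11,6,15,6], 0, 2),
    ([7,17,7,2,10,2], 1, 1),
    ([6,15,6,2,10,2], 2, 2),
    ([11,11,6,15,6], 0, 1),
    ([7,17,7,8,10,8], 1, 1),
    ([7,17,7,11,10,10], 1, 1),
    ([6,6,7,17,7], 0, 1),
    ([6,15,6,8,13,8], 2, 1),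
    ([0,7,17,7,1,11,1], 1, 1),
    ([1,7,17,7,10,10], 1, 1),
    ([6,15,6,5,16,5], 2, 2),
    ([7,17,7,13,13], 0, 1),
    ([7,1,17,1,2,10,2], 1, 1),
    ([6,7,15,7], 2, 2),
    ([4,6,15,6,13,13], 2, 1),
    ([4,6,15,6,13], 2, 1),
    ([4,6,15,6], 2, 1),
    ([4,6,15,6,2,13,2], 2, 1),
    ([1,7,17,7,2,13,2], 1, 2),
    ([6,15,6,13], 0, 2),
    ([6,15,6,16], 2, 2),
    ([0,7,17,7,11], 1, 2),
    ([7,17,7,11,2,10,2], 1, 2),
    ([6,15,6,13], 2, 1),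
    ([6,7,15,7,5,13,5], 0, 2),
    ([0,15,0,7,17,7], 1, 2),
    ([7,17,7,10,10], 0, 1),
    ([7,17,7,1,11,1], 1, 2),
    ([0,1,7,17,7], 1, 2),
    ([6,7,15,7,1,13,1], 2, 1),
    ([6,15,6,1,11,1], 2, 1),
    ([7,17,7,10], 0, 2),
    ([4,6,15,6,1,16,1], 2, 2),
    ([1,7,17,7,13], 1, 2),
    ([7,17,7,2,10,2], 1, 2),
    ([11,11,6,15,6], 0, 2),
    ([0,0,7,17,7,10,10], 1, 2),
    ([2,6,15,6,10], 2, 2),
    ([11,6,15,6], 0, 1),
    ([7,17,7,11,10,10], 1, 2),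
    ([7,17,7,8,10,8], 1, 2),
    ([1,0,0,7,17,7], 1, 1),
    ([6,7,15,7,10], 0, 1),
    ([2,6,15,6,5,10,5], 2, 2),
    ([2,6,15,6,5,13,5], 2, 1),
    ([11,6,15,6,5,16,5], 0, 2),
    ([7,17,7,5,11,5], 1, 1),
    ([6,15,6,8,10,8], 2, 2),
    ([0,11,0,6,15,6], 0, 2),
    ([6,6,7,17,7,10,10], 0, 2),
    ([11,6,15,6,1,13,1], 0, 1),
    ([7,17,7,2,13,2], 0, 2),
    ([0,11,0,6,15,6,16,16], 0, 2),
    ([6,15,6,5,10,5], 2, 1),
    ([0,7,17,7,2,10,2], 1, 1),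
    ([11,6,15,6,16], 0, 2),
    ([2,6,15,6], 2, 1),
    ([6,2,15,2,10], 2, 2),
    ([6,6,7,17,7,8,10,8], 0, 2),
    ([0,15,0,7,17,7,5,13,5], 1, 1),
    ([4,6,15,6,13,13], 2, 2),
    ([4,6,15,6], 2, 2),
    ([7,1,17,1,2,10,2], 1, 2),
    ([6,15,6,8,13,8], 0, 1),
    ([6,7,15,7], 2, 1),
    ([1,7,17,7,2,13,2], 1, 1),
    ([4,6,15,6,2,13,2], 2, 2),
    ([6,15,6,8,13,8], 2, 2),
    ([6,7,15,7,13,13], 0, 2),
    ([0,7,17,7,1,11,1], 1, 2),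
    ([6,6,7,17,7,13,13], 0, 2),
    ([6,7,15,7,8,13,8], 0, 1),
    ([6,15,6,5,16,5], 2, 1),
    ([6,15,6,13], 2, 2),
    ([7,17,7,11,2,10,2], 1, 1),
    ([6,15,6,16], 2, 1),
    ([7,17,7,1,16,1], 1, 2),
    ([6,15,6,1,13,1], 0, 1),
    ([0,11,0,6,15,6], 2, 1),
    ([6,2,15,2,5,13,5], 2, 1),
    ([6,7,15,7,2,13,2], 0, 1),
    ([7,17,7,1,13,1], 1, 2),
    ([6,7,15,7,2,13,2], 2, 2),
    ([6,11,11,7,15,7], 0, 2),
    ([7,17,7,2,10,2], 0, 2),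
    ([6,7,15,7,1,13,1], 0, 1),
    ([4,11,4,6,15,6], 0, 1),
    ([7,17,7,8,10,8], 0, 2),
    ([6,15,6,1,11,1,5,13,5], 2, 1),
    ([0,7,17,7,13], 1, 2),
    ([11,6,15,6,2,16,2], 0, 2),
    ([6,2,15,2], 2, 1),
    ([2,6,15,6,10,10], 2, 2),
    ([11,6,15,6,10], 0, 1),
    ([7,17,7,10,10,8,8], 1, 2),
    ([7,17,7,2,10,2], 0, 1),
    ([4,11,4,6,15,6], 0, 2),
    ([6,7,15,7,2,13,2], 2, 1),
    ([0,7,17,7,8,13,8], 1, 1),
    ([6,11,11,7,15,7], 0, 1),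
    ([6,15,6,1,11,1,5,13,5], 2, 2),
    ([7,17,7,8,10,8], 0, 1),
    ([6,15,6,1,13,1], 0, 2),
    ([0,15,0,7,17,7,13,13], 1, 1),
    ([0,11,0,6,15,6], 2, 2),
    ([7,17,7,1,13,1,16,16], 1, 1),
    ([0,0,7,17,7,1,13,1], 1, 2),
    ([6,7,15,7,2,13,2], 0, 2),
    ([11,6,15,6,10], 0, 2),
    ([2,6,15,6,10,10], 2, 1),
    ([11,6,15,6,2,16,2], 0, 1),
    ([0,15,0,7,17,7,2,10,2], 1, 2),
    ([7,17,7,11,11,5,10,5], 1, 1),
    ([0,7,17,7,5,11,5], 1, 2),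
    ([4,6,15,6,16,16], 2, 2),
    ([0,7,17,7,8,10,8], 1, 1),
    ([7,17,7,1,11,1,8,10,8], 1, 2),
    ([0,7,17,7,8,10,8], 1, 2),
    ([4,6,15,6,16,16], 2, 1),
    ([7,17,7,11,11,5,10,5], 1, 2),
    ([0,7,17,7,1,13,1], 1, 2),
    ([6,6,7,17,7,10,10], 0, 1),
    ([7,17,7,2,13,2], 0, 1),
    ([6,15,6,8,10,8], 2, 1),
    ([0,0,7,17,7,8,13,8], 1, 2),
    ([0,11,0,6,15,6], 0, 1),
    ([6,15,6,5,10,5], 2, 2),
    ([0,11,0,6,15,6,16,16], 0, 1),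
    ([6,7,15,7,10], 0, 2),
    ([7,17,7,1,11,1,5,10,5], 1, 2),
    ([2,6,15,6,5,10,5], 2, 1),
    ([7,17,7,5,11,5,16,16], 1, 2),
    ([0,15,0,7,17,7,2,13,2], 1, 1),
    ([11,6,15,6,5,16,5], 0, 1),
    ([6,6,7,17,7,8,10,8], 0, 1),
    ([6,2,15,2,10], 2, 1),
    ([11,6,15,6,16], 0, 1),
    ([6,7,15,7,1,13,1], 2, 2),
    ([4,6,15,6,10], 2, 2),
    ([6,15,6,1,11,1], 2, 2),
    ([4,11,4,6,15,6,16,16], 0, 2),
    ([6,2,15,2,8,13,8], 2, 2),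
    ([4,6,15,6,1,16,1], 2, 1),
    ([6,15,6,1,13,1], 2, 2),
    ([6,15,6,8,10,8], 0, 2),
    ([6,15,6,1,16,1], 2, 1),
    ([2,6,15,6,10], 2, 1),
    ([6,7,15,7,8,13,8], 0, 2),
    ([6,6,7,17,7,13,13], 0, 1),
    ([6,7,15,7,13,13], 0, 1),
    ([6,15,6,8,13,8], 0, 2),
    ([2,6,15,6,1,13,1], 2, 1),
    ([6,15,6,1,16,1], 2, 2),
    ([2,4,9,4,6,15,6], 2, 1),
    ([6,15,6,8,10,8], 0, 1),
    ([6,15,6,1,13,1], 2, 1),
    ([2,6,15,6,1,16,1], 2, 1),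
    ([6,2,15,2,8,13,8], 2, 1),
    ([4,11,4,6,15,6,16,16], 0, 1),
    ([4,6,15,6,10], 2, 1),
    ([6,15,6,2,10,2], 2, 1),
    ([0,15,0,7,17,7,2,13,2], 1, 2),
    ([7,17,7,5,11,5,16,16], 1, 1),
    ([7,17,7,1,11,1,5,10,5], 1, 1),
    ([0,0,7,17,7,8,13,8], 1, 1),
    ([4,6,15,6,13], 2, 2),
    ([0,0,7,17,7,1,13,1], 1, 1),
    ([7,17,7,1,13,1,16,16], 1, 2),
    ([0,15,0,7,17,7,13,13], 1, 2),
    ([0,7,17,7,8,13,8], 1, 2),
    ([6,7,15,7,1,13,1], 0, 2),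
    ([11,6,15,6,1,13,1], 0, 2)]

/-- Certificates for the elements over the representative 1. -/
def cand1 : List (List ℕ × ℕ × ℕ) :=
  [
    ([], 0, 1),
    ([7,17,7], 4, 1),
    ([7,7], 0, 1),
    ([6], 0, 1),
    ([5,13,5,2,11,2], 3, 1),
    ([6,15,6], 3, 2),
    ([7,17,7], 5, 2),
    ([7,17], 4, 1),
    ([0,7,17,7], 4, 1),
    ([2,15,2,6,15,6,8,16,8], 3, 2),
    ([2,15,2,6,15,6], 3, 2),
    ([7], 0, 1),
    ([7,16,7], 0, 1),
    ([15,6,15,6,8,16,8], 3, 2),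
    ([4,4,6,15,6], 3, 2),
    ([6,6], 0, 1),
    ([4,5,13,5,2,11,2], 3, 1),
    ([15,6,15,6], 3, 2),
    ([2,11,2,8,16,8], 3, 1),
    ([6,15,6,16], 3, 2),
    ([2,11,2], 3, 1),
    ([1,7,17,7], 5, 2),
    ([0,0,7,17,7], 5, 2),
    ([6,13,6,2,8,11,8], 3, 1),
    ([2,15,6,15,6], 3, 2),
    ([1,7,17,7], 4, 1),
    ([7,0,17,0], 4, 1),
    ([6,2,15,2,8,16,8], 3, 2),
    ([2,2,4,15,4,6,15,6], 3, 2),
    ([16,7,17,7], 4, 1),
    ([4,2,15,2,6,15,6,8,16,8], 3, 2),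
    ([6,2,15,2], 3, 2),
    ([6,11,6,2,11,2,8,16,8], 3, 1),
    ([6,2,15,2,6,16,6], 3, 2),
    ([6,11,6,2,11,2], 3, 1),
    ([6,7], 0, 1),
    ([6,15,8,16,8], 3, 2),
    ([4,6,15,6], 3, 2),
    ([6,7,16,7], 0, 1),
    ([6,6,15,15,8,16,8], 3, 1),
    ([4,15,4,6,15,6], 3, 2),
    ([6,2,11,2,8,16,8], 3, 1),
    ([6,15,7,16,7], 3, 2),
    ([4,2,11,2], 3, 1),
    ([13,2,5,11,5], 3, 1),
    ([6,15], 3, 2),
    ([4,4,2,11,2,8,16,8], 3, 1),
    ([6,15,6,16,6], 3, 2),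
    ([6,2,11,2], 3, 1),
    ([6,15,6,16,16], 3, 2),
    ([13,2,11,2], 3, 1),
    ([17,7,17,7], 5, 2),
    ([7,6,17,6], 5, 2),
    ([2,6,15,8,16,8], 3, 2),
    ([2,0,15,0,6,15,6], 3, 2),
    ([0,7,17,7], 5, 2),
    ([2,6,6,15,15,8,16,8], 3, 1),
    ([2,6,15], 3, 2),
    ([2,6,11,6,8,16,8], 3, 1),
    ([2,15,2,6,15,6,2,16,2], 3, 2),
    ([2,6,11,6], 3, 1),
    ([6,17,6,7,17,7], 4, 1),
    ([11,5,13,5,2,11,2], 3, 1),
    ([4,2,15,2,6,15,6], 3, 2),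
    ([0,15,0,7,17,7], 4, 1),
    ([4,6,2,15,2,8,16,8], 3, 2),
    ([6,5,2,15,2], 3, 2),
    ([11,2,11,2,8,16,8], 3, 1),
    ([6,8,15,8,2,16,2], 3, 2),
    ([4,6,11,6,2,11,2], 3, 1),
    ([6,2,15,2,7,16,7,8], 3, 2),
    ([2,2,6,15,6], 3, 2),
    ([2,6,11,6,8,16,8,1,16,1], 3, 1),
    ([6,15,2,16,2], 3, 2),
    ([11,2,11,2], 3, 1),
    ([2,15,2,6,15,6,16,16], 3, 2),
    ([11,6,13,6,2,11,2], 3, 1),
    ([7,6,6], 0, 1),
    ([6,4,15,4,8,16,8], 3, 2),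
    ([6,6,15,15], 3, 1),
    ([6,6,2,11,2,8,16,8], 3, 1),
    ([4,6,15,6,6,16,6], 3, 2),
    ([4,4,2,11,2], 3, 1),
    ([4,13,4,2,1,11,1], 3, 1),
    ([6,8,15,8], 3, 2),
    ([2,11,2,8,16,8,7,16,7], 3, 1),
    ([6,15,6,7,16,7], 3, 2),
    ([4,6,2,11,2], 3, 1),
    ([6,8,15,8,16,16], 3, 2),
    ([4,6,13,6,2,11,2], 3, 1),
    ([4,2,11,2,8,16,8], 3, 1),
    ([6,15,6,6,16,6], 3, 2),
    ([6,6,2,11,2], 3, 1),
    ([15,6,15,6,16,16], 3, 2),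
    ([6,13,2,11,2], 3, 1),
    ([13,13,2,11,2], 3, 1),
    ([0,15,0,7,17,7], 5, 2),
    ([2,6,15,6,8,16,8], 3, 2),
    ([2,6,6,15,15], 3, 1),
    ([7,0,17,0], 5, 2),
    ([2,6,0,15,0,8,16,8], 3, 2),
    ([6,8,15,8,2], 3, 2),
    ([2,11,8,16,8], 3, 1),
    ([2,6,15,6,7,16,7], 3, 2),
    ([2,0,6,11,6], 3, 1),
    ([4,13,4,2,8,11,8], 3, 1),
    ([2,6,15,6], 3, 2),
    ([2,7,6,11,6,8,16,8], 3, 1),
    ([2,6,15,6,6,16,6], 3, 2),
    ([2,11], 3, 1),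
    ([2,11,6,16,6,8,8], 3, 1),
    ([2,6,11,6,16,16], 3, 1),
    ([0,17,0,7,17,7], 4, 1),
    ([1,11,1,5,13,5,2,11,2], 3, 1),
    ([4,6,2,15,2], 3, 2),
    ([6,11,2,11,2,8,16,8], 3, 1),
    ([4,6,15,6,2,16,2], 3, 2),
    ([2,2,4,11,4,6,11,6], 3, 1),
    ([6,5,2,15,2,8,16,8], 3, 2),
    ([2,2,0,6,15,6], 3, 2),
    ([4,11,4,2,11,2,8,16,8], 3, 1),
    ([2,6,15,6,1,16,1], 3, 2),
    ([1,11,1,2,11,2], 3, 1),
    ([13,13,2,5,11,5], 3, 1),
    ([1,13,1,4,4,2,11,2], 3, 1),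
    ([4,6,11,6,2,11,2,8,16,8], 3, 1),
    ([6,15,6,2,16,2], 3, 2),
    ([6,11,2,11,2], 3, 1),
    ([6,2,15,2,16,16], 3, 2),
    ([4,1,13,1,2,11,2], 3, 1),
    ([2,6,11,6,2,16,2], 3, 1),
    ([6,8,15,8,8,16,8], 3, 2),
    ([6,4,15,4], 3, 2),
    ([2,11,2,7,16,7,8], 3, 1),
    ([6,15,6,5,16,5], 3, 2),
    ([6,5,2,11,2], 3, 1),
    ([6,6,15,15,16,16], 3, 1),
    ([6,8,13,8,2,11,2], 3, 1),
    ([4,6,2,11,2,8,16,8], 3, 1),
    ([4,6,15,6,5,16,5], 3, 2),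
    ([4,6,6,2,11,2], 3, 1),
    ([4,4,6,15,6,16,16], 3, 2),
    ([4,13,2,11,2], 3, 1),
    ([6,2,11,2,5,16,5], 3, 1),
    ([6,15,16,16], 3, 2),
    ([6,13,6,2,11,2], 3, 1),
    ([6,13,13,2,11,2], 3, 1),
    ([1,16,1,7,17,7], 5, 2),
    ([13,2,8,11,8], 3, 1),
    ([2,6,0,15,0], 3, 2),
    ([2,6,11,8,16,8], 3, 1),
    ([6,15,6,1,16,1], 3, 2),
    ([2,7,6,11,6], 3, 1),
    ([6,13,2,8,11,8], 3, 1),
    ([2,7,6,15,6], 3, 2),
    ([2,5,11,5,8,16,8], 3, 1),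
    ([4,6,15,6,1,16,1], 3, 2),
    ([2,0,11,0], 3, 1),
    ([2,11,2,2,16,2,8,16,8], 3, 1),
    ([1,13,1,4,11,4,2,11,2], 3, 1),
    ([2,0,6,11,6,8,16,8], 3, 1),
    ([2,6,15,6,16], 3, 2),
    ([2,6,11], 3, 1),
    ([2,6,15,16,16], 3, 2),
    ([2,11,16,16], 3, 1),
    ([2,11,6,16,6], 3, 1),
    ([1,13,1,2,1,11,1], 3, 1),
    ([4,2,2,6,15,6], 3, 2),
    ([6,2,11,2,1,16,1,8], 3, 1),
    ([6,6,15,15,2,16,2], 3, 1),
    ([4,11,4,2,11,2], 3, 1),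
    ([4,6,2,15,2,16,16], 3, 2),
    ([1,13,1,2,11,2], 3, 1),
    ([1,11,1,2,11,2,8,16,8], 3, 1),
    ([6,2,15,2,7,16,7], 3, 2),
    ([6,1,11,1,2,11,2], 3, 1),
    ([6,15,7,16,7,2,16,2], 3, 2),
    ([1,11,1,6,13,6,2,11,2], 3, 1),
    ([2,11,2,1,16,1], 3, 1),
    ([2,2,6,15,6,16,16], 3, 2),
    ([6,11,6,6,13,6,2,11,2], 3, 1),
    ([2,11,2,16,2], 3, 1),
    ([2,11,2,6,16,6,8], 3, 1),
    ([6,4,15,4,6,16,6], 3, 2),
    ([4,4,6,6,2,11,2], 3, 1),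
    ([6,4,15,4,16,16], 3, 2),
    ([4,13,4,2,11,2], 3, 1),
    ([4,2,11,2,7,16,7], 3, 1),
    ([2,11,2,6,16,6,8,8], 3, 1),
    ([2,11,2,7,16,7,6,16,6], 3, 1),
    ([2,11,2,7,16,7], 3, 1),
    ([2,11,2,6,16,6], 3, 1),
    ([5,13,5,1,11,1,2,11,2], 3, 1),
    ([2,0,6,15,6], 3, 2),
    ([2,5,11,5,6,8,16,8], 3, 1),
    ([15,6,15,6,1,16,1], 3, 2),
    ([2,5,11,5], 3, 1),
    ([6,15,6,1,16,1,6,16,6], 3, 2),
    ([2,5,11,5,16,16], 3, 1),
    ([2,0,11,0,8,16,8], 3, 1),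
    ([6,6,15,15,1,16,1], 3, 1),
    ([2,6,0,11,0], 3, 1),
    ([2,0,11,0,7,16,7,8,8], 3, 1),
    ([13,2,0,11,0], 3, 1),
    ([2,11,5,16,5], 3, 1),
    ([2,6,15,6,16,16], 3, 2),
    ([4,13,4,2,0,11,0], 3, 1),
    ([2,11,2,2,16,2], 3, 1),
    ([6,1,11,1,2,11,2,8,16,8], 3, 1),
    ([6,2,15,2,5,16,5], 3, 2),
    ([6,4,11,4,2,11,2], 3, 1),
    ([13,13,2,1,11,1], 3, 1),
    ([6,1,13,1,2,11,2], 3, 1),
    ([2,11,2,1,16,1,7,7], 3, 1),
    ([6,15,6,7,16,7,2,16,2], 3, 2),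
    ([4,4,1,13,1,2,11,2], 3, 1),
    ([6,2,11,2,1,16,1], 3, 1),
    ([6,11,6,2,11,2,6,16,6], 3, 1),
    ([4,6,15,6,16,16], 3, 2),
    ([8,13,8,2,11,2], 3, 1),
    ([2,5,11,5,1,16,1], 3, 1),
    ([2,11,2,5,16,5], 3, 1),
    ([2,6,0,11,0,8,16,8], 3, 1),
    ([6,15,1,16,1], 3, 2),
    ([2,5,11,5,6], 3, 1),
    ([13,13,2,8,11,8], 3, 1),
    ([4,13,4,2,6,11,6], 3, 1),
    ([2,0,6,11,6,7,16,7], 3, 1),
    ([2,6,11,6,6,16,6,8,8], 3, 1),
    ([2,0,11,0,16,16], 3, 1),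
    ([2,6,11,6,7,16,7], 3, 1),
    ([2,6,11,6,6,16,6], 3, 1),
    ([4,2,15,2,6,15,6,16,16], 3, 2),
    ([11,4,13,4,2,11,2], 3, 1),
    ([13,13,4,11,4,2,11,2], 3, 1),
    ([11,2,11,2,7,16,7], 3, 1),
    ([2,11,2,5,16,5,7,7], 3, 1),
    ([2,11,7,16,7,8,8], 3, 1),
    ([11,11,4,13,4,2,11,2], 3, 1),
    ([2,0,11,0,7,16,7], 3, 1),
    ([2,11,7,16,7], 3, 1),
    ([2,5,11,5,2,16,2], 3, 1),
    ([2,0,11,0,5,16,5], 3, 1)]

/-- Certificates for the elements over the representative 2. -/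
def cand2 : List (List ℕ × ℕ × ℕ) :=
  [
    ([8,16,8], 1, 1),
    ([0,7,8,16,8], 1, 1),
    ([0,8,16,8], 1, 1),
    ([8,16,8], 5, 1),
    ([], 0, 0),
    ([1,10,1,8,16,8], 5, 2),
    ([7,17,7,1,15,1], 1, 2),
    ([1,7,8,17,8], 1, 1),
    ([7,15,7,16,16], 5, 2),
    ([], 0, 0),
    ([8,7,16,7,2,11,2], 5, 2),
    ([8,0,16,0], 1, 1),
    ([0,8,16,8], 5, 1),
    ([], 0, 0),
    ([8,16,2,11,2], 5, 2),
    ([8,16,8], 4, 1),
    ([], 0, 0),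
    ([8,16,8], 6, 1),
    ([], 0, 0),
    ([], 0, 0),
    ([1,10,1,8,16,8], 4, 2),
    ([8,6,16,6], 1, 1),
    ([8,6,16,6], 5, 1),
    ([], 0, 0),
    ([7,16,7,1,10,1,8,16,8], 5, 2),
    ([7,8,16,8], 1, 1),
    ([8,7,16,7], 5, 1),
    ([], 0, 0),
    ([7,15,7,16,16,2,11,2], 5, 1),
    ([8,7,16,7], 4, 1),
    ([], 0, 0),
    ([0,7,8,16,8], 6, 1),
    ([], 0, 0),
    ([], 0, 0),
    ([7,15,7,16,16,2,11,2], 4, 1),
    ([8,16], 5, 1),
    ([], 0, 0),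
    ([0,1,10,1,8,16,8], 5, 2),
    ([0,8,16,8], 4, 1),
    ([], 0, 0),
    ([0,8,16,8], 6, 1),
    ([], 0, 0),
    ([], 0, 0),
    ([16,1,10,1,8,16,8], 4, 2),
    ([], 0, 0),
    ([2,2,4,15,4,6,11,6], 3, 2),
    ([], 0, 0),
    ([], 0, 0),
    ([4,11,4,2,15,2,6,6], 3, 1),
    ([], 0, 0),
    ([], 0, 0),
    ([7,17,7,0,15,0], 1, 2),
    ([7,7,8,16,8], 5, 1),
    ([], 0, 0),
    ([7,7,1,10,1,8,16,8], 5, 2),
    ([7,16,7,8,16,8], 4, 1),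
    ([], 0, 0),
    ([8,6,16,6], 6, 1),
    ([], 0, 0),
    ([], 0, 0),
    ([8,6,16,6,2,11,2], 4, 2),
    ([7,8,16,8], 5, 1),
    ([], 0, 0),
    ([7,1,10,1,8,16,8], 5, 2),
    ([7,15,7,16,16], 4, 2),
    ([], 0, 0),
    ([8,7,16,7], 6, 1),
    ([], 0, 0),
    ([], 0, 0),
    ([8,7,16,7,2,11,2], 4, 2),
    ([], 0, 0),
    ([2,15,2,0,11,0], 3, 2),
    ([], 0, 0),
    ([], 0, 0),
    ([11,2,15,2], 3, 1),
    ([], 0, 0),
    ([], 0, 0),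
    ([16,8,16,8], 4, 1),
    ([], 0, 0),
    ([8,16], 6, 1),
    ([], 0, 0),
    ([], 0, 0),
    ([0,1,10,1,8,16,8], 4, 2),
    ([], 0, 0),
    ([4,2,15,2,6,11,6], 3, 2),
    ([], 0, 0),
    ([], 0, 0),
    ([11,2,15,2,6,6], 3, 1),
    ([], 0, 0),
    ([], 0, 0),
    ([], 0, 0),
    ([], 0, 0),
    ([1,8,16,8,11,6,15,6], 6, 2),
    ([], 0, 0),
    ([], 0, 0),
    ([], 0, 0),
    ([7,16,7,8,16,8], 5, 1),
    ([], 0, 0),
    ([8,6,16,6,2,11,2], 5, 2),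
    ([7,7,8,16,8], 4, 1),
    ([], 0, 0),
    ([7,7,8,16,8], 6, 1),
    ([], 0, 0),
    ([], 0, 0),
    ([7,7,1,10,1,8,16,8], 4, 2),
    ([], 0, 0),
    ([2,2,6,11,6,6,15,6], 3, 2),
    ([], 0, 0),
    ([], 0, 0),
    ([15,15,6,11,6,2,15,2], 3, 2),
    ([], 0, 0),
    ([], 0, 0),
    ([7,8,16,8], 4, 1),
    ([], 0, 0),
    ([7,8,16,8], 6, 1),
    ([], 0, 0),
    ([], 0, 0),
    ([7,1,10,1,8,16,8], 4, 2),
    ([], 0, 0),
    ([2,15,2,11], 3, 2),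
    ([], 0, 0),
    ([], 0, 0),
    ([1,11,1,2,15,2], 3, 1),
    ([], 0, 0),
    ([], 0, 0),
    ([], 0, 0),
    ([], 0, 0),
    ([8,7,16,7,2,15,2,6,11,6], 6, 2),
    ([], 0, 0),
    ([], 0, 0),
    ([], 0, 0),
    ([], 0, 0),
    ([2,15,2,6,11,6], 3, 2),
    ([], 0, 0),
    ([], 0, 0),
    ([1,11,1,2,15,2,6,6], 3, 1),
    ([], 0, 0),
    ([], 0, 0),
    ([], 0, 0),
    ([], 0, 0),
    ([1,8,16,8,4,11,4,6,15,6], 6, 2),
    ([], 0, 0),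
    ([], 0, 0),
    ([], 0, 0),
    ([], 0, 0),
    ([], 0, 0),
    ([], 0, 0),
    ([8,6,16,6], 4, 1),
    ([], 0, 0),
    ([7,16,7,8,16,8], 6, 1),
    ([], 0, 0),
    ([], 0, 0),
    ([7,16,7,1,10,1,8,16,8], 4, 2),
    ([], 0, 0),
    ([2,15,2,6,8,11,8], 3, 2),
    ([], 0, 0),
    ([], 0, 0),
    ([4,11,4,2,15,2,6], 3, 1),
    ([], 0, 0),
    ([], 0, 0),
    ([], 0, 0),
    ([], 0, 0),
    ([7,8,16,8,0,11,0,2,15,2], 6, 1),
    ([], 0, 0),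
    ([], 0, 0),
    ([], 0, 0),
    ([], 0, 0),
    ([2,15,2,5,11,5], 3, 2),
    ([], 0, 0),
    ([], 0, 0),
    ([4,11,4,2,15,2], 3, 1),
    ([], 0, 0),
    ([], 0, 0),
    ([], 0, 0),
    ([], 0, 0),
    ([8,1,16,1,6,11,6,15,15], 6, 1),
    ([], 0, 0),
    ([], 0, 0),
    ([], 0, 0),
    ([], 0, 0),
    ([], 0, 0),
    ([], 0, 0),
    ([], 0, 0),
    ([], 0, 0),
    ([1,8,16,8,0,11,0,6,15,6], 6, 2),
    ([], 0, 0),
    ([], 0, 0),
    ([], 0, 0),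
    ([], 0, 0),
    ([], 0, 0),
    ([], 0, 0),
    ([], 0, 0),
    ([], 0, 0),
    ([2,15,2,6,0,11,0], 3, 2),
    ([], 0, 0),
    ([], 0, 0),
    ([11,2,15,2,6], 3, 1),
    ([], 0, 0),
    ([], 0, 0),
    ([], 0, 0),
    ([], 0, 0),
    ([1,8,16,8,6,15,6,6,11,6], 6, 2),
    ([], 0, 0),
    ([], 0, 0),
    ([], 0, 0),
    ([], 0, 0),
    ([], 0, 0),
    ([], 0, 0),
    ([], 0, 0),
    ([], 0, 0),
    ([1,8,16,8,6,11,6,15,15], 6, 1),
    ([], 0, 0),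
    ([], 0, 0),
    ([], 0, 0),
    ([], 0, 0),
    ([], 0, 0),
    ([], 0, 0),
    ([], 0, 0),
    ([], 0, 0),
    ([], 0, 0),
    ([], 0, 0),
    ([], 0, 0),
    ([], 0, 0),
    ([], 0, 0),
    ([7,8,16,8,2,15,2,5,11,5], 6, 2),
    ([], 0, 0),
    ([], 0, 0),
    ([], 0, 0),
    ([], 0, 0),
    ([], 0, 0),
    ([], 0, 0),
    ([], 0, 0),
    ([], 0, 0),
    ([], 0, 0),
    ([], 0, 0),
    ([], 0, 0),
    ([], 0, 0),
    ([], 0, 0),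
    ([], 0, 0),
    ([], 0, 0),
    ([], 0, 0),
    ([], 0, 0),
    ([], 0, 0)]

/-- Certificates for the elements over the representative 3. -/
def cand3 : List (List ℕ × ℕ × ℕ) :=
  [
    ([], 2, 2),
    ([4,4,6,11,6,2,15,2], 3, 2),
    ([7], 2, 2),
    ([15,15,6,6,2,11,2], 3, 2),
    ([], 0, 0),
    ([4,15,15,2,11,2], 3, 2),
    ([2,2,6,11,6,4,15,4], 3, 2),
    ([4,6,11,6,2,15,2], 3, 2),
    ([8,16,8,11,11,8,15,8], 6, 1),
    ([], 0, 0),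
    ([7,16,7,8,16,8,11,11,6,15,6], 6, 1),
    ([4], 2, 2),
    ([2,11,2,6,15,6,8,15,8], 3, 1),
    ([], 0, 0),
    ([15,15,2,11,2], 3, 2),
    ([4,15,15], 3, 2),
    ([], 0, 0),
    ([6,6,5,15,5], 3, 1),
    ([], 0, 0),
    ([], 0, 0),
    ([15,15,6,6], 3, 2),
    ([2,2,6,11,6,0,15,0], 3, 2),
    ([7,1,16,1,8,16,8,6,15,6], 6, 2),
    ([], 0, 0),
    ([0,1,1,8,16,8,15,15], 6, 1),
    ([6,11,6,2,15,2], 3, 2),
    ([8,16,8,15,11,11], 6, 1),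
    ([], 0, 0),
    ([8,6,16,6,11,11,6,15,6], 6, 1),
    ([8,16,8,15,15,8,11,8], 6, 2),
    ([], 0, 0),
    ([8,16,8,6,11,6,15], 6, 1),
    ([], 0, 0),
    ([], 0, 0),
    ([0,8,16,8,15,15,6,11,6], 6, 2),
    ([6,2,11,2,6,15,6], 3, 1),
    ([], 0, 0),
    ([15,4,15,4,2,11,2], 3, 2),
    ([15,15], 3, 2),
    ([], 0, 0),
    ([6,6,15], 3, 1),
    ([], 0, 0),
    ([], 0, 0),
    ([6,15,6,4,15,4], 3, 1),
    ([], 0, 0),
    ([4,6], 2, 2),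
    ([], 0, 0),
    ([], 0, 0),
    ([7,6,6], 2, 2),
    ([], 0, 0),
    ([], 0, 0),
    ([2,2,6,11,6,15], 3, 2),
    ([1,8,16,8,6,15,6,2,15,2], 6, 2),
    ([], 0, 0),
    ([1,2,10,2,8,16,8,15,15], 6, 2),
    ([1,8,16,8,5,15,5,6], 6, 2),
    ([], 0, 0),
    ([8,16,8,2,15,2,6,6], 6, 2),
    ([], 0, 0),
    ([], 0, 0),
    ([0,8,16,8,2,15,2], 6, 2),
    ([8,16,8,11,11,0,15,0], 6, 1),
    ([], 0, 0),
    ([7,7,8,16,8,11,11,6,15,6], 6, 1),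
    ([8,16,8,15,15,0,11,0], 6, 2),
    ([], 0, 0),
    ([8,16,8,6,11,6,0,15,0], 6, 1),
    ([], 0, 0),
    ([], 0, 0),
    ([8,16,8,15,15,6,11,6], 6, 2),
    ([], 0, 0),
    ([11,6,15,6,2,15,2], 3, 2),
    ([], 0, 0),
    ([], 0, 0),
    ([2,11,11,15,15], 3, 1),
    ([], 0, 0),
    ([], 0, 0),
    ([15,4,15,4], 3, 2),
    ([], 0, 0),
    ([6,6,7,15,7], 3, 1),
    ([], 0, 0),
    ([], 0, 0),
    ([6,6,15,6], 3, 1),
    ([], 0, 0),
    ([6], 2, 2),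
    ([], 0, 0),
    ([], 0, 0),
    ([4,6,6], 2, 2),
    ([], 0, 0),
    ([], 0, 0),
    ([], 0, 0),
    ([], 0, 0),
    ([6,6,2,11,2,4,15,4], 3, 1),
    ([], 0, 0),
    ([], 0, 0),
    ([], 0, 0),
    ([8,1,1,7,16,7,6,15,6], 6, 2),
    ([], 0, 0),
    ([1,1,8,16,8,15,15], 6, 1),
    ([0,8,16,8,2,15,2,6], 6, 2),
    ([], 0, 0),
    ([1,8,7,16,7,15,15], 6, 1),
    ([], 0, 0),
    ([], 0, 0),
    ([8,16,8,2,15,2], 6, 2),
    ([], 0, 0),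
    ([2,15,2,0,15,0,6,11,6], 3, 1),
    ([], 0, 0),
    ([], 0, 0),
    ([15,2,15,2,11], 3, 1),
    ([], 0, 0),
    ([], 0, 0),
    ([8,16,8,11,15,15], 6, 2),
    ([], 0, 0),
    ([8,16,8,6,11,6,5,15,5], 6, 1),
    ([], 0, 0),
    ([], 0, 0),
    ([7,8,16,8,4,11,4,6,15,6], 6, 1),
    ([], 0, 0),
    ([4,11,4,6,15,6,2,15,2], 3, 2),
    ([], 0, 0),
    ([], 0, 0),
    ([11,0,15,0,2,15,2], 3, 1),
    ([], 0, 0),
    ([], 0, 0),
    ([], 0, 0),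
    ([], 0, 0),
    ([7,8,16,8,11,11,15,15], 6, 2),
    ([], 0, 0),
    ([], 0, 0),
    ([], 0, 0),
    ([], 0, 0),
    ([6,5], 2, 2),
    ([], 0, 0),
    ([], 0, 0),
    ([6,6], 2, 2),
    ([], 0, 0),
    ([], 0, 0),
    ([], 0, 0),
    ([], 0, 0),
    ([6,6,15,2,11,2], 3, 1),
    ([], 0, 0),
    ([], 0, 0),
    ([], 0, 0),
    ([], 0, 0),
    ([], 0, 0),
    ([], 0, 0),
    ([8,16,8,2,15,2,6], 6, 2),
    ([], 0, 0),
    ([0,8,16,8,2,15,2,6,6], 6, 2),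
    ([], 0, 0),
    ([], 0, 0),
    ([1,8,16,8,5,15,5], 6, 2),
    ([], 0, 0),
    ([2,15,2,4,15,4,6,11,6], 3, 1),
    ([], 0, 0),
    ([], 0, 0),
    ([15,2,15,2,1,11,1], 3, 1),
    ([], 0, 0),
    ([], 0, 0),
    ([], 0, 0),
    ([], 0, 0),
    ([1,8,6,16,6,2,15,2], 6, 2),
    ([], 0, 0),
    ([], 0, 0),
    ([], 0, 0),
    ([], 0, 0),
    ([15,15,6,11,6,2,2], 3, 1),
    ([], 0, 0),
    ([], 0, 0),
    ([11,1,15,1,2,15,2], 3, 1),
    ([], 0, 0),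
    ([], 0, 0),
    ([], 0, 0),
    ([], 0, 0),
    ([8,7,16,7,11,11,15,15], 6, 2),
    ([], 0, 0),
    ([], 0, 0),
    ([], 0, 0),
    ([], 0, 0),
    ([], 0, 0),
    ([], 0, 0),
    ([], 0, 0),
    ([], 0, 0),
    ([6,6,2,11,2,5,15,5], 3, 1),
    ([], 0, 0),
    ([], 0, 0),
    ([], 0, 0),
    ([], 0, 0),
    ([], 0, 0),
    ([], 0, 0),
    ([], 0, 0),
    ([], 0, 0),
    ([15,2,15,2,6,11,6], 3, 1),
    ([], 0, 0),
    ([], 0, 0),
    ([15,2,15,2,0,11,0], 3, 1),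
    ([], 0, 0),
    ([], 0, 0),
    ([], 0, 0),
    ([], 0, 0),
    ([1,7,10,7,8,16,8,5,15,5], 6, 1),
    ([], 0, 0),
    ([], 0, 0),
    ([], 0, 0),
    ([], 0, 0),
    ([], 0, 0),
    ([], 0, 0),
    ([], 0, 0),
    ([], 0, 0),
    ([8,16,8,11,1,15,1,6,11,6], 6, 1),
    ([], 0, 0),
    ([], 0, 0),
    ([], 0, 0),
    ([], 0, 0),
    ([], 0, 0),
    ([], 0, 0),
    ([], 0, 0),
    ([], 0, 0),
    ([], 0, 0),
    ([], 0, 0),
    ([], 0, 0),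
    ([], 0, 0),
    ([], 0, 0),
    ([1,7,10,7,8,16,8,0,15,0], 6, 1),
    ([], 0, 0),
    ([], 0, 0),
    ([], 0, 0),
    ([], 0, 0),
    ([], 0, 0),
    ([], 0, 0),
    ([], 0, 0),
    ([], 0, 0),
    ([], 0, 0),
    ([], 0, 0),
    ([], 0, 0),
    ([], 0, 0),
    ([], 0, 0),
    ([], 0, 0),
    ([], 0, 0),
    ([], 0, 0),
    ([], 0, 0),
    ([], 0, 0)]

/-- All the certificates. -/
def candC : List (List (List ℕ × ℕ × ℕ)) := [cand0, cand1, cand2, cand3]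

end CfsgLib.OmegaSeven
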