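import Mathlib
import Cfsg.Agent.OmegaSeven.Data

/-!
# Matrices of degree seven over three elements on bit sets

Products, comparison and transport to matrices indexed as in the standard odd dimensional form.
-/

set_option autoImplicit false

namespace CfsgLib.OmegaSeven

open Matrix

/-- The index set of the form. -/
abbrev I7 := Unit ⊕ (Fin 3 ⊕ Fin 3)

/-- The position of an index. -/
def pos : I7 → ℕ
  | Sum.inl _ => 0
  | Sum.inr (Sum.inl i) => 1 + (i : ℕ)
  | Sum.inr (Sum.inr i) => 4 + (i : ℕ)

theorem pos_lt : ∀ a, pos a < 7 := by decide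

theorem exists_pos : ∀ i < 7, ∃ a, pos a = i := by decide

theorem sum_pos {M : Type*} [AddCommMonoid M] (f : ℕ → M) :
    ((List.range 7).map f).sum = ∑ a : I7, f (pos a) := by
  simp [List.range_succ, Fintype.sum_sum_type, Fin.sum_univ_three, pos]
  abel

/-- The entry at a position. -/
def rowVal (r : Row) (j : ℕ) : ZMod 3 :=
  if r.1.testBit j then 1 else if r.2.testBit j then 2 else 0

/-- Sum of two rows. -/
def addR (a b : Row) : Row :=
  let t := (a.1 ||| b.2) ^^^ (a.2 ||| b.1)
  ((a.2 ||| b.2) ^^^ t, (a.1 ||| b.1) ^^^ t)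

/-- No position is both 1 and 2. -/
def okR (r : Row) : Bool := r.1 &&& r.2 == 0

theorem okR_iff {r : Row} : okR r = true ↔ ∀ j, (r.1.testBit j && r.2.testBit j) = false := by
  rw [okR, beq_iff_eq]
  constructor
  · intro h j
    rw [← Nat.testBit_and, h, Nat.zero_testBit]
  · intro h
    exact Nat.eq_of_testBit_eq fun j => by rw [Nat.testBit_and, h j, Nat.zero_testBit]

theorem okR_addR {a b : Row} (ha : okR a = true) (hb : okR b = true) : okR (addR a b) = true := by
  rw [okR_iff] at ha hb ⊢
  intro j
  have h1 := ha j
  have h2 := hb j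
  simp only [addR, Nat.testBit_xor, Nat.testBit_or]
  revert h1 h2
  cases a.1.testBit j <;> cases a.2.testBit j <;> cases b.1.testBit j <;> cases b.2.testBit j <;> simp

theorem rowVal_addR {a b : Row} (ha : okR a = true) (hb : okR b = true) (j : ℕ) :
    rowVal (addR a b) j = rowVal a j + rowVal b j := by
  have h1 := okR_iff.1 ha j
  have h2 := okR_iff.1 hb j
  simp only [addR, rowVal, Nat.testBit_xor, Nat.testBit_or]
  revert h1 h2
  cases a.1.testBit j <;> cases a.2.testBit j <;> cases b.1.testBit j <;> cases b.2.testBit j <;>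
    simp <;> decide

/-- Row times matrix, over a list of positions. -/
def comboR (r : Row) (B : List Row) : List ℕ → Row
  | [] => (0, 0)
  | j :: l =>
    if r.1.testBit j then addR (B.getD j (0, 0)) (comboR r B l)
    else if r.2.testBit j then addR ((B.getD j (0, 0)).2, (B.getD j (0, 0)).1) (comboR r B l)
    else comboR r B l

/-- The positions. -/
def pos7 : List ℕ := [0, 1, 2, 3, 4, 5, 6]

/-- Every row is valid. -/
def okM (A : List Row) : Bool := A.all okR

theorem okR_getD {A : List Row} (hA : okM A = true) (i : ℕ) : okR (A.getD i (0, 0)) = true := by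
  rw [List.getD_eq_getElem?_getD]
  cases h : A[i]? with
  | none => rfl
  | some r => exact List.all_eq_true.1 hA r (List.mem_of_getElem? h)

theorem comboR_spec (r : Row) {B : List Row} (hB : okM B = true) : ∀ l : List ℕ,
    okR (comboR r B l) = true ∧ ∀ k, rowVal (comboR r B l) k
      = (l.map fun j => rowVal r j * rowVal (B.getD j (0, 0)) k).sum := by
  intro l
  induction l with
  | nil => exact ⟨by simp [comboR, okR], fun k => by simp [comboR, rowVal]⟩
  | cons j l ih =>
    set R := B.getD j (0, 0) with hR
    have hRok : okR R = true := okR_getD hB j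
    have hswap : okR (R.2, R.1) = true := okR_iff.2 fun k => by
      rw [Bool.and_comm]; exact okR_iff.1 hRok k
    by_cases h1 : r.1.testBit j = true
    · rw [comboR, if_pos h1, ← hR]
      refine ⟨okR_addR hRok ih.1, fun k => ?_⟩
      rw [rowVal_addR hRok ih.1, ih.2, List.map_cons, List.sum_cons, ← hR]
      simp [rowVal, h1]
    by_cases h2 : r.2.testBit j = true
    · rw [comboR, if_neg h1, if_pos h2, ← hR]
      refine ⟨okR_addR hswap ih.1, fun k => ?_⟩
      rw [rowVal_addR hswap ih.1, ih.2, List.map_cons, List.sum_cons, ← hR]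
      congr 1
      have h := okR_iff.1 hRok k
      simp only [rowVal, h1, h2]
      revert h
      cases R.1.testBit k <;> cases R.2.testBit k <;> simp <;> decide
    · rw [comboR, if_neg h1, if_neg h2]
      refine ⟨ih.1, fun k => ?_⟩
      rw [ih.2, List.map_cons, List.sum_cons]
      simp [rowVal, h1, h2]

/-- Product of coded matrices. -/
def mulC (A B : List Row) : List Row := A.map fun r => comboR r B pos7

/-- The unit. -/
def oneC : List Row := [(1, 0), (2, 0), (4, 0), (8, 0), (16, 0), (32, 0), (64, 0)]

/-- The matrix of a code. -/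
def toMat (A : List Row) : Matrix I7 I7 (ZMod 3) :=
  Matrix.of fun a b => rowVal (A.getD (pos a) (0, 0)) (pos b)

theorem toMat_one : toMat oneC = 1 := by
  ext a b
  rw [Matrix.one_apply]
  exact (by decide : ∀ a b : I7, rowVal (oneC.getD (pos a) (0, 0)) (pos b)
    = if a = b then 1 else 0) a b

theorem okM_mul (A : List Row) {B : List Row} (hB : okM B = true) : okM (mulC A B) = true := by
  simp only [okM, mulC, List.all_map, List.all_eq_true, Function.comp_apply]
  exact fun r _ => (comboR_spec r hB pos7).1

theorem toMat_mul (A : List Row) {B : List Row} (hB : okM B = true) :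
    toMat (mulC A B) = toMat A * toMat B := by
  ext a b
  have e : (mulC A B).getD (pos a) (0, 0) = comboR (A.getD (pos a) (0, 0)) B pos7 := by
    simp only [mulC, List.getD_eq_getElem?_getD, List.getElem?_map]
    cases A[pos a]? with
    | none => simp [comboR, pos7]
    | some r => rfl
  simp only [toMat, Matrix.of_apply, Matrix.mul_apply, e, (comboR_spec _ hB pos7).2]
  exact sum_pos fun j => rowVal (A.getD (pos a) (0, 0)) j * rowVal (B.getD j (0, 0)) (pos b)

/-- Two rows differ somewhere. -/
def neR (a b : Row) : Bool :=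
  pos7.any fun j => (a.1.testBit j != b.1.testBit j) || (a.2.testBit j != b.2.testBit j)

theorem exists_rowVal_ne {a b : Row} (ha : okR a = true) (hb : okR b = true) (h : neR a b = true) :
    ∃ c : I7, rowVal a (pos c) ≠ rowVal b (pos c) := by
  obtain ⟨j, hj, hd⟩ := List.any_eq_true.1 h
  obtain ⟨c, rfl⟩ := exists_pos j (by simp [pos7] at hj; omega)
  refine ⟨c, ?_⟩
  have h1 := okR_iff.1 ha (pos c)
  have h2 := okR_iff.1 hb (pos c)
  simp only [rowVal]
  revert h1 h2 hd
  cases a.1.testBit (pos c) <;> cases a.2.testBit (pos c) <;> cases b.1.testBit (pos c) <;>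
    cases b.2.testBit (pos c) <;> simp <;> decide

/-- Two matrices differ somewhere. -/
def neM (A B : List Row) : Bool := pos7.any fun i => neR (A.getD i (0, 0)) (B.getD i (0, 0))

theorem toMat_ne {A B : List Row} (hA : okM A = true) (hB : okM B = true) (h : neM A B = true) :
    toMat A ≠ toMat B := by
  obtain ⟨i, hi, hd⟩ := List.any_eq_true.1 h
  obtain ⟨a, rfl⟩ := exists_pos i (by simp [pos7] at hi; omega)
  obtain ⟨c, hc⟩ := exists_rowVal_ne (okR_getD hA _) (okR_getD hB _) hd
  exact fun e => hc (congrFun (congrFun e a) c)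

/-- The product of the coded generators of a word. -/
def evalC (gens : List (List Row)) : List ℕ → List Row
  | [] => oneC
  | k :: w => mulC (gens.getD k oneC) (evalC gens w)

theorem okM_evalC {gens : List (List Row)} : ∀ w, okM (evalC gens w) = true
  | [] => (by decide : okM oneC = true)
  | _ :: w => okM_mul _ (okM_evalC w)

end CfsgLib.OmegaSeven
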