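import Cfsg.Agent.OmegaSeven.Code

/-!
# The finite checks for the subgroups of order three of the seven dimensional orthogonal group
-/

set_option autoImplicit false

namespace CfsgLib.OmegaSeven

/-- Generators: valid, of cube one, isometries. -/
def checkGen (p : List Row × List Row) : Bool :=
  okM p.1 && okM p.2 && mulC p.1 (mulC p.1 p.1) == oneC &&
    mulC (mulC p.2 gramC) p.1 == gramC &&
    pos7.all fun i => pos7.all fun j =>
      ((p.1.getD i (0, 0)).1.testBit j == (p.2.getD j (0, 0)).1.testBit i) &&
        ((p.1.getD i (0, 0)).2.testBit j == (p.2.getD j (0, 0)).2.testBit i)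

/-- The generators. -/
def gens18 : List (List Row) := genC.map Prod.fst

/-- The generators of the radical. -/
def qGens : List (List Row) := qGenC.map fun i => gens18.getD i oneC

/-- The generators of the Levi part of the Sylow subgroup. -/
def lGens : List (List Row) := lGenC.map fun i => gens18.getD i oneC

/-- The Levi root elements. -/
def lAll : List (List Row) := lAllC.map fun i => gens18.getD i oneC

/-- The radical. -/
def qMats : List (List Row) := qList.map Prod.fst

/-- The Levi part. -/
def lMats : List (List Row) := lList.map Prod.fst

/-- A list starting with one, each member from an earlier one by a generator, closed under them. -/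
def checkClosed (gs : List (List Row)) (L : List (List Row × ℕ × ℕ)) : Bool :=
  (L.getD 0 ([], 0, 0)).1 == oneC &&
    ((List.range L.length).all fun k => k == 0 ||
      ((L.getD k ([], 0, 0)).2.1 < k &&
        mulC (L.getD (L.getD k ([], 0, 0)).2.1 ([], 0, 0)).1 (gs.getD (L.getD k ([], 0, 0)).2.2 oneC)
          == (L.getD k ([], 0, 0)).1)) &&
    L.all fun x => okM x.1 && gs.all fun g =>
      (L.map Prod.fst).contains (mulC x.1 g)

theorem gens_ok : genC.all checkGen = true := by decide +kernel

theorem qClosed_ok : checkClosed qGens qList = true := by decide +kernel

theorem lClosed_ok : checkClosed lGens lList = true := by decide +kernel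

/-- The generators of the Levi part normalise the radical. -/
theorem normalise_ok : (lAll.all fun g => qGens.all fun q =>
    qMats.any fun q' => mulC g q == mulC q' g) = true := by decide +kernel

/-- Members of the radical are told apart by one row, on which the Levi part is trivial. -/
theorem key_ok : (qMats.all fun q => q == oneC || neR (q.getD 1 (0, 0)) (2, 0)) = true ∧
    (lMats.all fun l => l.getD 1 (0, 0) == (2, 0)) = true := by decide +kernel

theorem lGens_sub : (lGens.all fun g => lAll.contains g) = true := by decide +kernel

/-- Pairwise different. -/
def checkDistinct : List (List Row) → Bool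
  | [] => true
  | a :: l => (l.all fun b => neM a b) && checkDistinct l

theorem qDistinct_ok : checkDistinct qMats = true := by decide +kernel

theorem lDistinct_ok : checkDistinct lMats = true := by decide +kernel

/-- Powers one and two. -/
def powC (A : List Row) (s : ℕ) : List Row := if s = 1 then A else mulC A A

theorem lCert_ok : ((List.range lMats.length).all fun k =>
    let l := lMats.getD k oneC
    let c := lCert.getD k ([], 0, 0)
    neM (mulC l (mulC l l)) oneC || ((c.2.2 == 1 || c.2.2 == 2) && c.2.1 < jList.length &&
      mulC (evalC lAll c.1) l == mulC (powC (jList.getD c.2.1 oneC) c.2.2) (evalC lAll c.1))) = true := by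
  decide +kernel

theorem jList_ok : (jList.all fun l => lMats.contains l) = true := by decide +kernel

theorem jList_cube : (jList.all fun l => mulC l (mulC l l) == oneC) = true := by decide +kernel

theorem repC_ok : (repC.all fun p => checkGen p && neM p.1 oneC) = true ∧ repC.length = 7 := by
  decide +kernel

set_option maxHeartbeats 4000000 in
theorem candC_ok : ((List.range jList.length).all fun j =>
    (List.range qMats.length).all fun k =>
      let m := mulC (qMats.getD k oneC) (jList.getD j oneC)
      let c := (candC.getD j []).getD k ([], 0, 0)
      neM (mulC m (mulC m m)) oneC || m == oneC ||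
        ((c.2.2 == 1 || c.2.2 == 2) && c.2.1 < 7 &&
          mulC (evalC gens18 c.1) m
            == mulC (powC (repC.getD c.2.1 ([], [])).1 c.2.2) (evalC gens18 c.1))) = true := by
  decide +kernel

/-- The code of a vector from its number. -/
def vecC (n : ℕ) : Row :=
  (pos7.foldr (fun i acc => (if n / 3 ^ i % 3 = 1 then 2 ^ i else 0) + acc) 0,
    pos7.foldr (fun i acc => (if n / 3 ^ i % 3 = 2 then 2 ^ i else 0) + acc) 0)

/-- The value of the form on a coded vector, as a number. -/
def qVal (v : Row) : ℕ :=
  let d (i : ℕ) : ℕ := if v.1.testBit i then 1 else if v.2.testBit i then 2 else 0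
  (d 0 * d 0 + d 1 * d 4 + d 2 * d 5 + d 3 * d 6) % 3

/-- The numbers of fixed vectors of the values 0 and 1. -/
def fixC (T : List Row) : ℕ × ℕ :=
  ((List.range 2187).foldr (fun n acc =>
    let v := vecC n
    if !neR (comboR v T pos7) v then
      (if qVal v == 0 then (acc.1 + 1, acc.2) else if qVal v == 1 then (acc.1, acc.2 + 1) else acc)
    else acc) (0, 0))

theorem fixC_ok : repC.map (fun p => fixC p.2)
    = [(81, 108), (99, 72), (63, 90), (9, 18), (27, 0), (27, 0), (9, 0)] := by
  decide +kernel

end CfsgLib.OmegaSeven
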