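import Cfsg.Agent.OmegaSeven.Checks
import Cfsg.Agent.Forms.OrthIndex
import Cfsg.Agent.Forms4.POmegaOrders

/-!
# A Sylow subgroup of the seven dimensional orthogonal group over three elements

Every subgroup of order three is conjugate to one generated by one of seven elements.
-/

set_option autoImplicit false

namespace CfsgLib.OmegaSeven

open Matrix CfsgLib.StdForms

/-- The form. -/
noncomputable abbrev Q7 : QuadraticForm (ZMod 3) (I7 → ZMod 3) := oddQ 3 (ZMod 3)

/-- The isometry group. -/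
abbrev O7 := ↥(Cfsg.isometryGroup (ZMod 3) ⇑Q7)

/-- Its commutator subgroup. -/
abbrev G7 := ↥(Cfsg.Omega (ZMod 3) ⇑Q7)

/-- The matrix of an element. -/
noncomputable def toM : G7 →* Matrix I7 I7 (ZMod 3) :=
  (Units.coeHom _).comp ((Cfsg.isometryGroup (ZMod 3) ⇑Q7).subtype.comp
    (Cfsg.Omega (ZMod 3) ⇑Q7).subtype)

theorem toM_injective : Function.Injective toM := fun _ _ h =>
  Subtype.ext (Subtype.ext (Units.ext h))

theorem two_ne_zero3 : (2 : ZMod 3) ≠ 0 := by decide

theorem nondeg7 : (QuadraticMap.polarBilin Q7).Nondegenerate := oddQ_nondegenerate two_ne_zero3 3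

theorem gen7 (g : O7) : ∃ vs, CfsgLib.Spinor.IsReflProd Q7 g vs :=
  CfsgLib.Spinor.exists_isReflProd two_ne_zero3 nondeg7 g

/-- Squares lie in the commutator subgroup. -/
theorem sq_mem (g : O7) : g * g ∈ Cfsg.Omega (ZMod 3) ⇑Q7 := by
  classical
  rw [CfsgLib.Forms.omega_eq_ker nondeg7 gen7 two_ne_zero3, MonoidHom.mem_ker, map_mul]
  exact Prod.ext (Int.units_mul_self _) (Int.units_mul_self _)

theorem quad_gram (v : I7 → ZMod 3) : Q7 v = 2 * (v ⬝ᵥ (toMat gramC *ᵥ v)) := by
  have hG : ∀ a b : I7, toMat gramC a b = if a = Sum.inl () ∧ b = Sum.inl () then 2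
      else if (∃ i, a = Sum.inr (Sum.inl i) ∧ b = Sum.inr (Sum.inr i)) ∨
        (∃ i, b = Sum.inr (Sum.inl i) ∧ a = Sum.inr (Sum.inr i)) then 1 else 0 := by
    simp only [toMat, Matrix.of_apply]
    decide +kernel
  rw [oddQ_apply]
  simp [Cfsg.quadFormOdd, Matrix.mulVec, dotProduct, Fintype.sum_sum_type, Fin.sum_univ_three, hG]
  linear_combination (-(v (Sum.inl ()) ^ 2) - v (Sum.inr (Sum.inl 0)) * v (Sum.inr (Sum.inr 0))
    - v (Sum.inr (Sum.inl 1)) * v (Sum.inr (Sum.inr 1))
    - v (Sum.inr (Sum.inl 2)) * v (Sum.inr (Sum.inr 2))) * (by decide : (3 : ZMod 3) = 0)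

/-- A code is that of a member of the group. -/
def El (A : List Row) : Prop := okM A = true ∧ ∃ g : G7, toM g = toMat A

open Classical in
/-- The element of a code. -/
noncomputable def elem (A : List Row) : G7 := if h : El A then h.2.choose else 1

theorem toM_elem {A : List Row} (h : El A) : toM (elem A) = toMat A := by
  rw [elem, dif_pos h]
  exact h.2.choose_spec

theorem El.mul {A B : List Row} (hA : El A) (hB : El B) : El (mulC A B) :=
  ⟨okM_mul A hB.1, hA.2.choose * hB.2.choose, by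
    rw [map_mul, hA.2.choose_spec, hB.2.choose_spec, toMat_mul A hB.1]⟩

theorem El.one : El oneC := ⟨by decide, 1, by rw [map_one, toMat_one]⟩

theorem elem_mul {A B : List Row} (hA : El A) (hB : El B) : elem (mulC A B) = elem A * elem B :=
  toM_injective (by rw [map_mul, toM_elem (hA.mul hB), toM_elem hA, toM_elem hB, toMat_mul A hB.1])

theorem elem_one : elem oneC = 1 :=
  toM_injective (by rw [toM_elem El.one, toMat_one, map_one])

theorem El.eval {gens : List (List Row)} (h : ∀ g ∈ gens, El g) : ∀ w, El (evalC gens w)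
  | [] => El.one
  | k :: w => by
    refine El.mul ?_ (El.eval h w)
    rw [List.getD_eq_getElem?_getD]
    cases hk : gens[k]? with
    | none => exact El.one
    | some g => exact h g (List.mem_of_getElem? hk)

theorem elem_eval_mem {gens : List (List Row)} (h : ∀ g ∈ gens, El g) {H : Subgroup G7}
    (hH : ∀ g ∈ gens, elem g ∈ H) : ∀ w, elem (evalC gens w) ∈ H
  | [] => by rw [evalC, elem_one]; exact one_mem H
  | k :: w => by
    have hk : El (gens.getD k oneC) ∧ elem (gens.getD k oneC) ∈ H := by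
      rw [List.getD_eq_getElem?_getD]
      cases hk : gens[k]? with
      | none => exact ⟨El.one, by rw [Option.getD_none, elem_one]; exact one_mem H⟩
      | some g => exact ⟨h g (List.mem_of_getElem? hk), hH g (List.mem_of_getElem? hk)⟩
    rw [evalC, elem_mul hk.1 (El.eval h w)]
    exact mul_mem hk.2 (elem_eval_mem h hH w)

theorem elem_cube_ne {A : List Row} (hA : El A) (h : neM A oneC = true) : elem A ≠ 1 := fun e =>
  toMat_ne hA.1 (by decide) h (by rw [← toM_elem hA, e, map_one, toMat_one])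

theorem El.of_checkGen {p : List Row × List Row} (h : checkGen p = true) : El p.1 := by
  simp only [checkGen, Bool.and_eq_true, beq_iff_eq, List.all_eq_true] at h
  obtain ⟨⟨⟨⟨h1, h2⟩, h3⟩, h4⟩, h5⟩ := h
  set M := toMat p.1 with hM
  have hT : toMat p.2 = Mᵀ := by
    ext a b
    have := h5 (pos b) (by have := pos_lt b; simp [pos7]; omega) (pos a)
      (by have := pos_lt a; simp [pos7]; omega)
    obtain ⟨e1, e2⟩ := this
    simp only [hM, toMat, rowVal, Matrix.transpose_apply, Matrix.of_apply, e1, e2]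
  have hcube : M * (M * M) = 1 := by
    rw [hM, ← toMat_mul _ h1, ← toMat_mul _ (okM_mul _ h1), h3, toMat_one]
  have hgram : Mᵀ * toMat gramC * M = toMat gramC := by
    rw [← hT, hM, ← toMat_mul _ (by decide), ← toMat_mul _ h1, h4]
  let u : GL I7 (ZMod 3) := ⟨M, M * M, hcube, by rw [mul_assoc, hcube]⟩
  have hu : u ∈ Cfsg.isometryGroup (ZMod 3) ⇑Q7 := by
    intro x y
    show Q7 (M *ᵥ x) = Q7 x
    rw [quad_gram, quad_gram, Matrix.mulVec_mulVec, dotProduct_comm, Matrix.dotProduct_mulVec,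
      ← Matrix.mulVec_transpose, Matrix.mulVec_mulVec, ← Matrix.mul_assoc, hgram,
      dotProduct_comm (toMat gramC *ᵥ x)]
  refine ⟨h1, ⟨(⟨u, hu⟩ : O7), ?_⟩, rfl⟩
  set g0 : O7 := ⟨u, hu⟩ with hg0
  have h3' : g0 * (g0 * g0) = 1 := Subtype.ext (Units.ext hcube)
  have e : g0 * g0 * (g0 * g0) = g0 := by
    calc g0 * g0 * (g0 * g0) = g0 * (g0 * (g0 * g0)) := by simp only [mul_assoc]
      _ = g0 := by rw [h3', mul_one]
  rw [← e]
  exact mul_mem (sq_mem g0) (sq_mem g0)

theorem el_gens18 : ∀ g ∈ gens18, El g := by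
  intro g hg
  obtain ⟨p, hp, rfl⟩ := List.mem_map.1 hg
  exact El.of_checkGen (List.all_eq_true.1 gens_ok p hp)

theorem el_sub {is : List ℕ} : ∀ g ∈ is.map (fun i => gens18.getD i oneC), El g := by
  intro g hg
  obtain ⟨i, -, rfl⟩ := List.mem_map.1 hg
  rw [List.getD_eq_getElem?_getD]
  cases hk : gens18[i]? with
  | none => exact El.one
  | some g => exact el_gens18 g (List.mem_of_getElem? hk)

theorem el_qGens : ∀ g ∈ qGens, El g := el_sub
theorem el_lGens : ∀ g ∈ lGens, El g := el_sub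
theorem el_lAll : ∀ g ∈ lAll, El g := el_sub

/-- The subgroup generated by coded elements. -/
noncomputable def genSub (gs : List (List Row)) : Subgroup G7 :=
  Subgroup.closure {x | ∃ g ∈ gs, elem g = x}

theorem mem_genSub_of {gs : List (List Row)} {g : List Row} (hg : g ∈ gs) : elem g ∈ genSub gs :=
  Subgroup.subset_closure ⟨g, hg, rfl⟩

/-- A closed list is the generated subgroup. -/
theorem mem_genSub {gs : List (List Row)} (hgs : ∀ g ∈ gs, El g) {L : List (List Row × ℕ × ℕ)}
    (h : checkClosed gs L = true) :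
    (∀ A ∈ L.map Prod.fst, El A) ∧ ∀ x, x ∈ genSub gs ↔ ∃ A ∈ L.map Prod.fst, elem A = x := by
  simp only [checkClosed, Bool.and_eq_true, List.all_eq_true, List.mem_range, Bool.or_eq_true,
    beq_iff_eq, decide_eq_true_eq] at h
  obtain ⟨⟨h0, hpar⟩, hcl⟩ := h
  have hmem : ∀ k, k < L.length →
      El (L.getD k ([], 0, 0)).1 ∧ elem (L.getD k ([], 0, 0)).1 ∈ genSub gs := by
    intro k
    induction k using Nat.strong_induction_on with
    | _ k ih =>
      intro hk
      rcases Nat.eq_zero_or_pos k with rfl | hk0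
      · rw [h0, elem_one]; exact ⟨El.one, one_mem _⟩
      · obtain ⟨hp, he⟩ := (hpar k hk).resolve_left (by omega)
        obtain ⟨hE, hm⟩ := ih _ hp (by omega)
        have hg : El (gs.getD (L.getD k ([], 0, 0)).2.2 oneC) ∧
            elem (gs.getD (L.getD k ([], 0, 0)).2.2 oneC) ∈ genSub gs := by
          rw [List.getD_eq_getElem?_getD (l := gs)]
          cases hk' : gs[(L.getD k ([], 0, 0)).2.2]? with
          | none => exact ⟨El.one, by rw [Option.getD_none, elem_one]; exact one_mem _⟩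
          | some g => exact ⟨hgs g (List.mem_of_getElem? hk'),
              Subgroup.subset_closure ⟨g, List.mem_of_getElem? hk', rfl⟩⟩
        rw [← he, elem_mul hE hg.1]
        exact ⟨hE.mul hg.1, mul_mem hm hg.2⟩
  have hget : ∀ A ∈ L.map Prod.fst, ∃ k < L.length, (L.getD k ([], 0, 0)).1 = A := by
    intro A hA
    obtain ⟨x, hx, rfl⟩ := List.mem_map.1 hA
    obtain ⟨k, hk, e⟩ := List.getElem_of_mem hx
    exact ⟨k, hk, by rw [List.getD_eq_getElem _ _ hk, e]⟩
  have hEl : ∀ A ∈ L.map Prod.fst, El A := fun A hA => by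
    obtain ⟨k, hk, rfl⟩ := hget A hA
    exact (hmem k hk).1
  refine ⟨hEl, fun x => ⟨fun hx => ?_, ?_⟩⟩
  · have hne : L ≠ [] := by
      rintro rfl
      simp [oneC] at h0
    have hone : oneC ∈ L.map Prod.fst := by
      rw [← h0, List.getD_eq_getElem _ _ (List.length_pos_iff.2 hne)]
      exact List.mem_map_of_mem (List.getElem_mem _)
    rw [genSub, ← Subgroup.mem_toSubmonoid, Subgroup.closure_toSubmonoid_of_finite] at hx
    induction hx using Submonoid.closure_induction_right with
    | one => exact ⟨oneC, hone, elem_one⟩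
    | mul_right a _ y hy ih =>
      obtain ⟨A, hA, rfl⟩ := ih
      obtain ⟨g, hg, rfl⟩ := hy
      obtain ⟨p, hp, rfl⟩ := List.mem_map.1 hA
      refine ⟨mulC p.1 g, ?_, elem_mul (hEl _ hA) (hgs g hg)⟩
      exact List.contains_iff_mem.1 ((hcl p hp).2 g hg)
  · rintro ⟨A, hA, rfl⟩
    obtain ⟨k, hk, rfl⟩ := hget A hA
    exact (hmem k hk).2

/-- The radical. -/
noncomputable def qSub : Subgroup G7 := genSub qGens

/-- The Levi part. -/
noncomputable def lSub : Subgroup G7 := genSub lGens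

theorem mem_qSub {x : G7} : x ∈ qSub ↔ ∃ A ∈ qMats, elem A = x :=
  (mem_genSub el_qGens qClosed_ok).2 x

theorem el_qMats : ∀ A ∈ qMats, El A := (mem_genSub el_qGens qClosed_ok).1

theorem mem_lSub {x : G7} : x ∈ lSub ↔ ∃ A ∈ lMats, elem A = x :=
  (mem_genSub el_lGens lClosed_ok).2 x

theorem el_lMats : ∀ A ∈ lMats, El A := (mem_genSub el_lGens lClosed_ok).1

theorem lAll_le : genSub lAll ≤ Subgroup.normalizer (qSub : Set G7) := by
  rw [genSub, Subgroup.closure_le]
  rintro _ ⟨g, hg, rfl⟩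
  refine Subgroup.mem_normalizer_iff_map_conj_eq.2 ?_
  have hle : qSub.map (MulAut.conj (elem g)).toMonoidHom ≤ qSub := by
    rw [Subgroup.map_le_iff_le_comap]
    unfold qSub genSub
    rw [Subgroup.closure_le]
    rintro _ ⟨q, hq, rfl⟩
    show elem g * elem q * (elem g)⁻¹ ∈ qSub
    have h := List.all_eq_true.1 (List.all_eq_true.1 normalise_ok g hg) q hq
    simp only [List.any_eq_true, beq_iff_eq] at h
    obtain ⟨q', hq', e⟩ := h
    have e' := congrArg elem e
    rw [elem_mul (el_lAll g hg) (el_qGens q hq), elem_mul (el_qMats q' hq') (el_lAll g hg)] at e'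
    rw [e', mul_inv_cancel_right]
    exact mem_qSub.2 ⟨q', hq', rfl⟩
  refine Subgroup.eq_of_le_of_card_ge hle (le_of_eq ?_)
  exact Nat.card_congr (Subgroup.equivMapOfInjective _ _ (MulAut.conj (elem g)).injective).toEquiv

theorem lSub_le : lSub ≤ genSub lAll :=
  Subgroup.closure_mono (by
    rintro _ ⟨g, hg, rfl⟩
    exact ⟨g, List.contains_iff_mem.1 (List.all_eq_true.1 lGens_sub g hg), rfl⟩)

theorem normal_q {l q : G7} (hl : l ∈ genSub lAll) (hq : q ∈ qSub) : l * q * l⁻¹ ∈ qSub :=
  (Subgroup.mem_normalizer_iff.1 (lAll_le hl) q).1 hq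

theorem inf_eq_one {x : G7} (hq : x ∈ qSub) (hl : x ∈ lSub) : x = 1 := by
  obtain ⟨A, hA, rfl⟩ := mem_qSub.1 hq
  obtain ⟨B, hB, hBA⟩ := mem_lSub.1 hl
  have hA' := List.all_eq_true.1 key_ok.1 A hA
  simp only [Bool.or_eq_true, beq_iff_eq] at hA'
  rcases hA' with rfl | h
  · exact elem_one
  exfalso
  have hB1 := List.all_eq_true.1 key_ok.2 B hB
  simp only [beq_iff_eq] at hB1
  obtain ⟨c, hc⟩ := exists_rowVal_ne (okR_getD (el_qMats A hA).1 1) (by decide) h
  refine hc ?_
  have e : toMat B = toMat A := by rw [← toM_elem (el_lMats B hB), hBA, toM_elem (el_qMats A hA)]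
  have e2 := congrFun (congrFun e (Sum.inr (Sum.inl 0))) c
  simp only [toMat, Matrix.of_apply] at e2
  rw [← hB1]
  exact e2.symm

theorem card_genSub {gs : List (List Row)} (hgs : ∀ g ∈ gs, El g) {L : List (List Row × ℕ × ℕ)}
    (h : checkClosed gs L = true) (hd : checkDistinct (L.map Prod.fst) = true) :
    Nat.card (genSub gs) = L.length := by
  classical
  obtain ⟨hEl, hmem⟩ := mem_genSub hgs h
  have hnd : ∀ M : List (List Row), checkDistinct M = true → (∀ A ∈ M, El A) → (M.map elem).Nodup := by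
    intro M
    induction M with
    | nil => simp
    | cons A M ih =>
      intro hd hM
      simp only [checkDistinct, Bool.and_eq_true, List.all_eq_true] at hd
      rw [List.map_cons, List.nodup_cons]
      refine ⟨fun hc => ?_, ih hd.2 fun B hB => hM B (List.mem_cons_of_mem _ hB)⟩
      obtain ⟨B, hB, e⟩ := List.mem_map.1 hc
      have hB' := hM B (List.mem_cons_of_mem _ hB)
      exact toMat_ne (hM A List.mem_cons_self).1 hB'.1 (hd.1 B hB)
        (by rw [← toM_elem (hM A List.mem_cons_self), ← e, toM_elem hB'])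
  have hset : (genSub gs : Set G7) = ↑((L.map Prod.fst).map elem).toFinset := by
    ext x
    rw [SetLike.mem_coe, hmem, Finset.mem_coe, List.mem_toFinset, List.mem_map]
  rw [← SetLike.coe_sort_coe, hset, Nat.card_coe_set_eq, Set.ncard_coe_finset,
    List.toFinset_card_of_nodup (hnd _ hd hEl), List.length_map, List.length_map]

/-- The Sylow subgroup. -/
noncomputable def uSub : Subgroup G7 := qSub ⊔ lSub

theorem mem_uSub {x : G7} : x ∈ uSub ↔ ∃ q ∈ qSub, ∃ l ∈ lSub, q * l = x := by
  rw [uSub, ← SetLike.mem_coe, Subgroup.coe_mul_of_right_le_normalizer_left _ _ (lSub_le.trans lAll_le),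
    Set.mem_mul]
  simp only [SetLike.mem_coe]

theorem card_uSub : Nat.card uSub = 3 ^ 9 := by
  have hq : Nat.card qSub = 243 :=
    (card_genSub el_qGens qClosed_ok qDistinct_ok).trans (by decide +kernel)
  have hl : Nat.card lSub = 81 :=
    (card_genSub el_lGens lClosed_ok lDistinct_ok).trans (by decide +kernel)
  let f : qSub × lSub → uSub := fun p => ⟨p.1.1 * p.2.1, mem_uSub.2 ⟨_, p.1.2, _, p.2.2, rfl⟩⟩
  have hf : Function.Bijective f := by
    refine ⟨fun a b e => ?_, fun x => ?_⟩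
    · have e' : a.1.1 * a.2.1 = b.1.1 * b.2.1 := congrArg Subtype.val e
      have h1 : b.1.1⁻¹ * a.1.1 = 1 := by
        refine inf_eq_one (mul_mem (inv_mem b.1.2) a.1.2) ?_
        rw [show b.1.1⁻¹ * a.1.1 = b.2.1 * a.2.1⁻¹ by
          rw [eq_mul_inv_iff_mul_eq, mul_assoc, e', inv_mul_cancel_left]]
        exact mul_mem b.2.2 (inv_mem a.2.2)
      have h2 : b.1.1 = a.1.1 := inv_mul_eq_one.1 h1
      rw [← h2] at e'
      exact Prod.ext (Subtype.ext h2.symm) (Subtype.ext (mul_left_cancel e'))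
    · obtain ⟨q, hq, l, hl, e⟩ := mem_uSub.1 x.2
      exact ⟨(⟨q, hq⟩, ⟨l, hl⟩), Subtype.ext e⟩
  rw [← Nat.card_congr (Equiv.ofBijective f hf), Nat.card_prod, hq, hl]
  norm_num

theorem center_eq : Subgroup.center G7 = ⊥ := by
  rw [← Subgroup.card_eq_one]
  refine CfsgLib.Forms4.card_center_omega_one nondeg7 (by simp) (CfsgLib.Forms4.oddPairs 3 (by norm_num))
    fun g hg hgv => ?_
  exfalso
  have h1 := (CfsgLib.Forms.mem_special_iff g).1 (CfsgLib.Forms.omega_le_special hg)
  rw [hgv, Matrix.det_neg, Matrix.det_one, mul_one] at h1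
  revert h1
  simp
  decide

theorem card_G7 : Nat.card G7 = 4585351680 := by
  have h := CfsgLib.Forms4.card_pOmegaOdd (F := ZMod 3) (ZMod.card 3) (by decide) 3 le_rfl
  rw [← coe_oddQ] at h
  have e := (Subgroup.center G7).card_eq_card_quotient_mul_card_subgroup
  rw [center_eq, Subgroup.card_bot, mul_one] at e
  change 2 * Nat.card (G7 ⧸ Subgroup.center G7) = _ at h
  rw [← center_eq] at e
  rw [← e] at h
  simp [Finset.prod_range_succ] at h
  omega

/-- The seven elements. -/
noncomputable def rep (i : Fin 7) : G7 := elem (repC.getD i ([], [])).1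

theorem el_rep (i : Fin 7) : El (repC.getD i ([], [])).1 ∧ rep i ≠ 1 ∧ rep i * (rep i * rep i) = 1 := by
  have hlen : (i : ℕ) < repC.length := by rw [repC_ok.2]; exact i.2
  have hmem : repC.getD i ([], []) ∈ repC := by
    rw [List.getD_eq_getElem _ _ hlen]; exact List.getElem_mem _
  have h := List.all_eq_true.1 repC_ok.1 _ hmem
  simp only [Bool.and_eq_true] at h
  have hE := El.of_checkGen h.1
  refine ⟨hE, elem_cube_ne hE h.2, ?_⟩
  have h' := h.1
  simp only [checkGen, Bool.and_eq_true, beq_iff_eq] at h'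
  rw [rep, ← elem_mul hE hE, ← elem_mul hE (hE.mul hE), h'.1.1.2, elem_one]

set_option maxHeartbeats 1000000 in
/-- Every subgroup of order three is generated by a conjugate of one of the seven elements. -/
theorem exists_rep (X : Subgroup G7) (hX : Nat.card X = 3) :
    ∃ (i : Fin 7) (g : G7), X.map (MulAut.conj g).toMonoidHom = Subgroup.zpowers (rep i) := by
  classical
  have : Fact (Nat.Prime 3) := ⟨by norm_num⟩
  have hfac : (Nat.card G7).factorization 3 = 9 := by
    have hne : Nat.card G7 ≠ 0 := Nat.card_pos.ne'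
    have h9 := (Nat.Prime.pow_dvd_iff_le_factorization (k := 9) Nat.prime_three hne).1
      (by rw [card_G7]; norm_num)
    have h10 : ¬ 10 ≤ (Nat.card G7).factorization 3 := fun h => by
      have := (Nat.Prime.pow_dvd_iff_le_factorization (k := 10) Nat.prime_three hne).2 h
      rw [card_G7] at this
      norm_num at this
    omega
  let P₀ : Sylow 3 G7 := Sylow.ofCard uSub (by rw [card_uSub, hfac])
  obtain ⟨P, hP⟩ := (IsPGroup.of_card (p := 3) (n := 1) (by rw [hX, pow_one])).exists_le_sylow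
  obtain ⟨t, ht⟩ := MulAction.exists_smul_eq G7 P P₀
  have hXU : X.map (MulAut.conj t).toMonoidHom ≤ uSub := by
    have e : (P : Subgroup G7).map (MulAut.conj t).toMonoidHom = uSub :=
      congrArg Sylow.toSubgroup ht
    exact (Subgroup.map_mono hP).trans e.le
  obtain ⟨⟨x, hxX⟩, hx⟩ := (isCyclic_of_prime_card hX).exists_generator
  have hXz : X = Subgroup.zpowers x := by
    refine le_antisymm (fun y hy => ?_) (Subgroup.zpowers_le.2 hxX)
    obtain ⟨k, hk⟩ := hx ⟨y, hy⟩
    exact ⟨k, congrArg Subtype.val hk⟩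
  set u := t * x * t⁻¹ with hu
  have hxc : orderOf x = 3 := by rw [← Nat.card_zpowers, ← hXz, hX]
  have hu3 : u * (u * u) = 1 := by
    have : x * (x * x) = 1 := by
      have := pow_orderOf_eq_one x
      rw [hxc, pow_succ', pow_two] at this
      exact this
    rw [hu]
    calc t * x * t⁻¹ * (t * x * t⁻¹ * (t * x * t⁻¹)) = t * (x * (x * x)) * t⁻¹ := by group
      _ = 1 := by rw [this, mul_one, mul_inv_cancel]
  have hu1 : u ≠ 1 := by
    rw [hu, Ne, conj_eq_one_iff]
    intro e
    rw [e, orderOf_one] at hxc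
    norm_num at hxc
  obtain ⟨q, hq, l, hl, hql⟩ := mem_uSub.1 (hXU ⟨x, hxX, rfl⟩ : u ∈ uSub)
  have hlN : l ∈ genSub lAll := lSub_le hl
  have hl3 : l * (l * l) = 1 := by
    refine inf_eq_one ?_ (mul_mem hl (mul_mem hl hl))
    have e : q * (l * q * l⁻¹) * ((l * l) * q * (l * l)⁻¹) * (l * (l * l)) = u * (u * u) := by
      rw [← hql]; group
    rw [hu3, mul_eq_one_iff_inv_eq] at e
    rw [← e]
    exact inv_mem (mul_mem (mul_mem hq (normal_q hlN hq)) (normal_q (mul_mem hlN hlN) hq))
  obtain ⟨A, hA, hAl⟩ := mem_lSub.1 hl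
  obtain ⟨k, hk, hkA⟩ := List.getElem_of_mem hA
  have hcert := List.all_eq_true.1 lCert_ok k (List.mem_range.2 hk)
  rw [List.getD_eq_getElem _ _ hk, hkA] at hcert
  have hAE := el_lMats A hA
  have hcube0 : ¬ neM (mulC A (mulC A A)) oneC = true := fun h => by
    refine elem_cube_ne (hAE.mul (hAE.mul hAE)) h ?_
    rw [elem_mul hAE (hAE.mul hAE), elem_mul hAE hAE, hAl, hl3]
  simp only [Bool.or_eq_true, hcube0, Bool.false_eq_true, false_or, Bool.and_eq_true, decide_eq_true_eq, beq_iff_eq] at hcert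
  obtain ⟨⟨hs, hjlt⟩, he⟩ := hcert
  set c := lCert.getD k ([], 0, 0)
  set J := jList.getD c.2.1 oneC with hJ
  have hJmem : J ∈ lMats := by
    rw [hJ, List.getD_eq_getElem _ _ hjlt]
    exact List.contains_iff_mem.1 (List.all_eq_true.1 jList_ok _ (List.getElem_mem _))
  have hJE := el_lMats J hJmem
  set h := elem (evalC lAll c.1)
  have hh : h ∈ genSub lAll := elem_eval_mem el_lAll (fun g hg => mem_genSub_of hg) _
  set q' := h * q * h⁻¹
  have hq' : q' ∈ qSub := normal_q hh hq
  obtain ⟨Q', hQ', v, hv⟩ : ∃ Q' ∈ qMats, ∃ v : G7, v = elem Q' * elem J ∧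
      (h * u * h⁻¹ = v ∨ h * u * h⁻¹ = v⁻¹) := by
    have hJN : elem J ∈ genSub lAll := lSub_le (mem_lSub.2 ⟨J, hJmem, rfl⟩)
    have e1 : h * l = elem (powC J c.2.2) * h := by
      have e := congrArg elem he
      have hP : El (powC J c.2.2) := by
        unfold powC; split
        · exact hJE
        · exact hJE.mul hJE
      rw [elem_mul (El.eval el_lAll _) hAE, elem_mul hP (El.eval el_lAll _), hAl] at e
      exact e
    have e2 : h * u * h⁻¹ = q' * elem (powC J c.2.2) := by
      calc h * u * h⁻¹ = h * q * h⁻¹ * (h * l * h⁻¹) := by rw [← hql]; group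
        _ = q' * elem (powC J c.2.2) := by rw [e1, mul_inv_cancel_right]
    rcases hs with hs | hs <;> rw [hs] at e2
    · obtain ⟨Q', hQ', e⟩ := mem_qSub.1 hq'
      exact ⟨Q', hQ', _, rfl, Or.inl (by rw [e]; simpa [powC] using e2)⟩
    · have hJ3 : elem J * (elem J * elem J) = 1 := by
        have h9 := List.all_eq_true.1 jList_cube J (by
          rw [hJ, List.getD_eq_getElem _ _ hjlt]; exact List.getElem_mem _)
        simp only [beq_iff_eq] at h9
        rw [← elem_mul hJE hJE, ← elem_mul hJE (hJE.mul hJE), h9, elem_one]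
      obtain ⟨Q', hQ', e⟩ := mem_qSub.1 (normal_q hJN (inv_mem hq'))
      refine ⟨Q', hQ', _, rfl, Or.inr ?_⟩
      rw [e, inv_mul_cancel_right, _root_.mul_inv_rev, inv_inv]
      rw [e2]
      simp only [powC, if_neg (by decide : ¬ (2 : ℕ) = 1), elem_mul hJE hJE]
      rw [inv_eq_of_mul_eq_one_right hJ3]
  obtain ⟨hv0, hv⟩ := hv
  have hX' : X.map (MulAut.conj (h * t)).toMonoidHom = Subgroup.zpowers v := by
    rw [hXz, MonoidHom.map_zpowers]
    have e : (MulAut.conj (h * t)).toMonoidHom x = h * u * h⁻¹ := by simp [hu, mul_assoc]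
    rw [e]
    rcases hv with hv | hv <;> rw [hv]
    exact Subgroup.zpowers_inv
  have hv1 : v ≠ 1 ∧ v * (v * v) = 1 := by
    have h1 : h * u * h⁻¹ ≠ 1 ∧ (h * u * h⁻¹) * ((h * u * h⁻¹) * (h * u * h⁻¹)) = 1 :=
      ⟨fun e => hu1 (conj_eq_one_iff.1 e), by
        calc h * u * h⁻¹ * (h * u * h⁻¹ * (h * u * h⁻¹)) = h * (u * (u * u)) * h⁻¹ := by group
          _ = 1 := by rw [hu3, mul_one, mul_inv_cancel]⟩
    rcases hv with hv | hv <;> rw [hv] at h1
    · exact h1
    · refine ⟨fun e => h1.1 (by rw [e, inv_one]), ?_⟩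
      have := congrArg (·⁻¹) h1.2
      simpa [mul_assoc] using this
  obtain ⟨m, hm, hmQ⟩ := List.getElem_of_mem hQ'
  have hc2 := List.all_eq_true.1 (List.all_eq_true.1 candC_ok c.2.1 (List.mem_range.2 hjlt)) m
    (List.mem_range.2 hm)
  rw [List.getD_eq_getElem _ _ hm, hmQ, ← hJ] at hc2
  have hQE := el_qMats Q' hQ'
  have hMel : elem (mulC Q' J) = v := by rw [elem_mul hQE hJE, hv0]
  have n1 : ¬ neM (mulC (mulC Q' J) (mulC (mulC Q' J) (mulC Q' J))) oneC = true := fun hh' => by
    refine elem_cube_ne ((hQE.mul hJE).mul ((hQE.mul hJE).mul (hQE.mul hJE))) hh' ?_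
    rw [elem_mul (hQE.mul hJE) ((hQE.mul hJE).mul (hQE.mul hJE)), elem_mul (hQE.mul hJE) (hQE.mul hJE),
      hMel, hv1.2]
  have n2 : ¬ mulC Q' J = oneC := fun hh' => hv1.1 (by rw [← hMel, hh', elem_one])
  simp only [Bool.or_eq_true, n1, n2, beq_iff_eq, Bool.false_eq_true, false_or, Bool.and_eq_true, decide_eq_true_eq] at hc2
  obtain ⟨⟨hs', hr⟩, he'⟩ := hc2
  set d := (candC.getD c.2.1 []).getD m ([], 0, 0)
  refine ⟨⟨d.2.1, hr⟩, elem (evalC gens18 d.1) * (h * t), ?_⟩
  obtain ⟨hR, -, hR3⟩ := el_rep ⟨d.2.1, hr⟩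
  have e := congrArg elem he'
  have hP : El (powC (repC.getD d.2.1 ([], [])).1 d.2.2) := by
    unfold powC; split
    · exact hR
    · exact hR.mul hR
  rw [elem_mul (El.eval el_gens18 _) (hQE.mul hJE), elem_mul hP (El.eval el_gens18 _), hMel] at e
  set W := elem (evalC gens18 d.1)
  have e3 : W * v * W⁻¹ = elem (powC (repC.getD d.2.1 ([], [])).1 d.2.2) := by
    rw [e, mul_inv_cancel_right]
  have : X.map (MulAut.conj (W * (h * t))).toMonoidHom
      = (X.map (MulAut.conj (h * t)).toMonoidHom).map (MulAut.conj W).toMonoidHom := by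
    rw [Subgroup.map_map]
    refine congrArg (fun f => X.map f) (MonoidHom.ext fun y => ?_)
    simp [mul_assoc]
  rw [this, hX', MonoidHom.map_zpowers, MulEquiv.coe_toMonoidHom, MulAut.conj_apply, e3]
  rcases hs' with hs' | hs' <;> rw [hs']
  · simp [powC, rep]
  · simp only [powC, if_neg (by decide : ¬ (2 : ℕ) = 1), elem_mul hR hR]
    rw [show elem (repC.getD d.2.1 ([], [])).1 * elem (repC.getD d.2.1 ([], [])).1
        = (rep ⟨d.2.1, hr⟩)⁻¹ from (inv_eq_of_mul_eq_one_right hR3).symm, Subgroup.zpowers_inv]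

end CfsgLib.OmegaSeven
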