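import Cfsg.Agent.OmegaSeven.Group

/-!
# The fixed vectors of the seven representatives

The numbers of fixed vectors of given values of the form are invariant under conjugation and
inversion, and tell the representatives apart except the fifth and the sixth.
-/

set_option autoImplicit false

namespace CfsgLib.OmegaSeven

open Matrix

/-- The number of fixed vectors of a given value of the form. -/
noncomputable def fixCount (g : G7) (c : ZMod 3) : ℕ :=
  Nat.card {v : I7 → ZMod 3 // toM g *ᵥ v = v ∧ Q7 v = c}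

theorem quad_toM (g : G7) (v : I7 → ZMod 3) : Q7 (toM g *ᵥ v) = Q7 v :=
  g.1.2 v v

theorem mulVec_toM (g h : G7) (v : I7 → ZMod 3) :
    toM g *ᵥ (toM h *ᵥ v) = toM (g * h) *ᵥ v := by
  rw [map_mul, Matrix.mulVec_mulVec]

theorem one_mulVec_toM (v : I7 → ZMod 3) : toM (1 : G7) *ᵥ v = v := by
  rw [map_one, Matrix.one_mulVec]

theorem fixCount_conj (g h : G7) (c : ZMod 3) : fixCount (h * g * h⁻¹) c = fixCount g c := by
  let e : (I7 → ZMod 3) ≃ (I7 → ZMod 3) :=
    { toFun := fun v => toM h⁻¹ *ᵥ v
      invFun := fun v => toM h *ᵥ v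
      left_inv := fun v => by simp only [mulVec_toM, mul_inv_cancel, one_mulVec_toM]
      right_inv := fun v => by simp only [mulVec_toM, inv_mul_cancel, one_mulVec_toM] }
  refine Nat.card_congr (e.subtypeEquiv fun v => ?_)
  show _ ↔ toM g *ᵥ (toM h⁻¹ *ᵥ v) = toM h⁻¹ *ᵥ v ∧ Q7 (toM h⁻¹ *ᵥ v) = c
  rw [quad_toM]
  refine and_congr_left fun _ => ?_
  rw [mulVec_toM, show g * h⁻¹ = h⁻¹ * (h * g * h⁻¹) by group, ← mulVec_toM h⁻¹]
  exact e.injective.eq_iff.symm

theorem fixCount_inv (g : G7) (c : ZMod 3) : fixCount g⁻¹ c = fixCount g c := by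
  refine Nat.card_congr (Equiv.subtypeEquivRight fun v => and_congr_left fun _ => ⟨fun h => ?_, fun h => ?_⟩)
  · conv_lhs => rw [← h]
    rw [mulVec_toM, mul_inv_cancel, one_mulVec_toM]
  · conv_lhs => rw [← h]
    rw [mulVec_toM, inv_mul_cancel, one_mulVec_toM]

/-- The position as a member of `Fin 7`. -/
noncomputable def posEquiv : I7 ≃ Fin 7 :=
  Equiv.ofBijective (fun a => (⟨pos a, pos_lt a⟩ : Fin 7)) (by decide)

/-- The vector of a coded row. -/
def vec (r : Row) : I7 → ZMod 3 := fun a => rowVal r (pos a)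

theorem okR_vecC : ((List.range 2187).all fun n => okR (vecC n)) = true := by decide +kernel

theorem rowVal_vecC : ((List.range 2187).all fun n => pos7.all fun j =>
    (if (vecC n).1.testBit j then 1 else if (vecC n).2.testBit j then 2 else 0) == n / 3 ^ j % 3) = true := by
  decide +kernel

/-- The vectors by their numbers. -/
noncomputable def vecEquiv : Fin (3 ^ 7) ≃ (I7 → ZMod 3) :=
  finFunctionFinEquiv.symm.trans (posEquiv.symm.arrowCongr (Equiv.refl (Fin 3)))

theorem vecEquiv_apply (n : Fin (3 ^ 7)) : vecEquiv n = vec (vecC n) := by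
  funext a
  have hn : (n : ℕ) < 2187 := n.2.trans_eq (by norm_num)
  have h := List.all_eq_true.1 (List.all_eq_true.1 rowVal_vecC n (List.mem_range.2 hn)) (pos a)
    (by have := pos_lt a; simp [pos7]; omega)
  rw [beq_iff_eq] at h
  have e : ZMod.val (vecEquiv n a) = (n : ℕ) / 3 ^ pos a % 3 := by
    show ((finFunctionFinEquiv.symm n (posEquiv a) : Fin 3) : ℕ) = _
    rw [finFunctionFinEquiv_symm_apply_val]
    rfl
  rw [← h] at e
  refine ZMod.val_injective 3 (e.trans ?_)
  simp only [vec, rowVal]
  split_ifs <;> rfl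

theorem vec_eq_iff {r s : Row} (hr : okR r = true) (hs : okR s = true) :
    vec r = vec s ↔ neR r s = false := by
  constructor
  · intro e
    rw [Bool.eq_false_iff]
    intro h
    obtain ⟨c, hc⟩ := exists_rowVal_ne hr hs h
    exact hc (congrFun e c)
  · intro h
    funext a
    simp only [neR, List.any_eq_false, Bool.or_eq_true, bne_iff_ne, ne_eq, not_or, not_not] at h
    have hh := h (pos a) (by have := pos_lt a; simp [pos7]; omega)
    simp only [vec, rowVal, hh.1, hh.2]

theorem vec_combo {T : List Row} (hT : okM T = true) (r : Row) :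
    vec (comboR r T pos7) = (toMat T)ᵀ *ᵥ vec r := by
  funext a
  rw [vec, (comboR_spec r hT pos7).2]
  refine (sum_pos fun j => rowVal r j * rowVal (T.getD j (0, 0)) (pos a)).trans ?_
  rw [Matrix.mulVec_transpose]
  rfl

theorem transpose_checkGen {p : List Row × List Row} (h : checkGen p = true) :
    okM p.2 = true ∧ (toMat p.2)ᵀ = toMat p.1 := by
  simp only [checkGen, Bool.and_eq_true, beq_iff_eq, List.all_eq_true] at h
  obtain ⟨⟨⟨⟨-, h2⟩, -⟩, -⟩, h5⟩ := h
  refine ⟨h2, ?_⟩
  ext a b
  obtain ⟨e1, e2⟩ := h5 (pos a) (by have := pos_lt a; simp [pos7]; omega) (pos b)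
    (by have := pos_lt b; simp [pos7]; omega)
  simp only [toMat, rowVal, Matrix.transpose_apply, Matrix.of_apply, e1, e2]

theorem qVal_vec (r : Row) : Q7 (vec r) = ((qVal r : ℕ) : ZMod 3) := by
  have h : ∀ j, rowVal r j
      = (((if r.1.testBit j then 1 else if r.2.testBit j then 2 else 0) : ℕ) : ZMod 3) := fun j => by
    simp only [rowVal]
    split_ifs <;> simp
  rw [CfsgLib.StdForms.oddQ_apply]
  simp only [Cfsg.quadFormOdd, vec, Fin.sum_univ_three, h, pos, qVal, ZMod.natCast_mod, Nat.cast_add,
    Nat.cast_mul, Fin.val_zero, Fin.val_one, Fin.val_two, Nat.reduceAdd, pow_two]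
  ring

theorem qVal_lt (r : Row) : qVal r < 3 := Nat.mod_lt _ (by norm_num)

theorem foldr_count {α : Type*} (p q0 q1 : α → Bool) : ∀ l : List α,
    l.foldr (fun n acc => if p n then
      (if q0 n then (acc.1 + 1, acc.2) else if q1 n then (acc.1, acc.2 + 1) else acc) else acc) (0, 0)
    = (l.countP fun n => p n && q0 n, l.countP fun n => p n && !q0 n && q1 n) := by
  intro l
  induction l with
  | nil => rfl
  | cons a l ih =>
    rw [List.foldr_cons, ih, List.countP_cons, List.countP_cons]
    cases p a <;> cases q0 a <;> cases q1 a <;> simp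

theorem countP_range (N : ℕ) (p : ℕ → Bool) :
    (List.range N).countP p = Nat.card {n : Fin N // p n = true} := by
  classical
  have hr : List.range N = (List.finRange N).map Fin.val := by apply List.ext_getElem <;> simp
  rw [Nat.card_eq_fintype_card, Fintype.card_subtype, hr, List.countP_map,
    Finset.card_def, Finset.filter_val, Finset.val_univ_fin, Multiset.filter_coe,
    Multiset.coe_card, List.countP_eq_length_filter]
  simp [Function.comp_def]

/-- The counts of the certificate are the numbers of fixed vectors. -/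
theorem fixC_eq {p : List Row × List Row} (h : checkGen p = true) :
    fixC p.2 = (fixCount (elem p.1) 0, fixCount (elem p.1) 1) := by
  have hE := El.of_checkGen h
  obtain ⟨hT, hTr⟩ := transpose_checkGen h
  have key : ∀ (c : ℕ), c < 3 → (List.range 2187).countP
      (fun n => !neR (comboR (vecC n) p.2 pos7) (vecC n) && (qVal (vecC n) == c))
      = fixCount (elem p.1) c := by
    intro c hc
    rw [countP_range, fixCount, toM_elem hE]
    refine Nat.card_congr (((finCongr (by norm_num : (2187 : ℕ) = 3 ^ 7)).trans vecEquiv).subtypeEquiv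
      fun n => ?_)
    rw [Equiv.trans_apply, vecEquiv_apply, finCongr_apply_coe, ← hTr, ← vec_combo hT, qVal_vec,
      Bool.and_eq_true, Bool.not_eq_true', beq_iff_eq]
    refine and_congr (vec_eq_iff (comboR_spec _ hT _).1 ?_).symm ?_
    · exact List.all_eq_true.1 okR_vecC n (List.mem_range.2 n.2)
    · constructor
      · intro e; rw [e]
      · intro e
        have := congrArg ZMod.val e
        rwa [ZMod.val_natCast, ZMod.val_natCast, Nat.mod_eq_of_lt (qVal_lt _),
          Nat.mod_eq_of_lt hc] at this
  have k0 := key 0 (by norm_num)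
  have k1 := key 1 (by norm_num)
  simp only [Nat.cast_zero, Nat.cast_one] at k0 k1
  rw [← k0, ← k1, fixC, foldr_count]
  refine congrArg₂ Prod.mk (List.countP_congr fun n _ => Iff.rfl) (List.countP_congr fun n _ => ?_)
  simp only [Bool.and_eq_true, beq_iff_eq, Bool.not_eq_true', beq_eq_false_iff_ne]
  exact ⟨fun h => ⟨h.1.1, h.2⟩, fun h => ⟨⟨h.1, by omega⟩, h.2⟩⟩

/-- The counts of the seven representatives. -/
theorem fixCount_rep : ∀ i : Fin 7, (fixCount (rep i) 0, fixCount (rep i) 1)
    = [(81, 108), (99, 72), (63, 90), (9, 18), (27, 0), (27, 0), (9, 0)].getD (i : ℕ) (0, 0) := by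
  intro i
  have hlen : (i : ℕ) < repC.length := by rw [repC_ok.2]; exact i.2
  have h := List.all_eq_true.1 repC_ok.1 _ (List.getElem_mem hlen)
  simp only [Bool.and_eq_true] at h
  rw [← fixC_ok, rep, List.getD_eq_getElem _ _ hlen,
    List.getD_eq_getElem _ _ (by rw [List.length_map]; exact hlen), List.getElem_map, fixC_eq h.1]

/-- Only the fifth and the sixth may be conjugate. -/
theorem eq_of_fixCount {i j : Fin 7} (h : ∀ c, fixCount (rep i) c = fixCount (rep j) c) :
    i = j ∨ (i = 4 ∧ j = 5) ∨ (i = 5 ∧ j = 4) := by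
  have e : (fixCount (rep i) 0, fixCount (rep i) 1) = (fixCount (rep j) 0, fixCount (rep j) 1) := by
    rw [h, h]
  rw [fixCount_rep, fixCount_rep] at e
  clear h
  revert e
  revert i j
  decide +kernel

end CfsgLib.OmegaSeven
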