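import Cfsg.Agent.OmegaSeven.SplitChecks

/-!
# The fifth and the sixth representative are not conjugate

An isometry conjugating one to a generator of the group of the other keeps a flag, and its part
keeping the levels lies outside the commutator subgroup.
-/

set_option autoImplicit false

namespace CfsgLib.OmegaSeven

open Matrix CfsgLib.Spinor

theorem exists_isReflProd_list : ∀ vs : List (I7 → ZMod 3), (∀ v ∈ vs, Q7 v ≠ 0) →
    ∃ d, IsReflProd Q7 d vs
  | [], _ => ⟨1, IsReflProd.one⟩
  | v :: vs, h => by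
    obtain ⟨d, hd⟩ := exists_isReflProd_list vs fun w hw => h w (List.mem_cons_of_mem _ hw)
    exact ⟨_, (IsReflProd.reflIso v (h v List.mem_cons_self)).mul hd⟩

/-- An element of order dividing nine lies in the commutator subgroup. -/
theorem mem_omega_of_pow_nine {u : O7} (h : u ^ 9 = 1) : u ∈ Cfsg.Omega (ZMod 3) ⇑Q7 := by
  have e : u ^ 5 * u ^ 5 = u := by
    rw [← pow_add, show 5 + 5 = 9 + 1 from rfl, pow_add, h, one_mul, pow_one]
  rw [← e]
  exact sq_mem _

theorem pow_lev {N : Matrix I7 I7 (ZMod 3)} (hN : ∀ a b, lev b ≤ lev a → N a b = 0) :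
    ∀ (k : ℕ) (a b : I7), lev b < lev a + k → (N ^ k) a b = 0 := by
  intro k
  induction k with
  | zero =>
    intro a b h
    rw [pow_zero, Matrix.one_apply_ne]
    rintro rfl
    omega
  | succ k ih =>
    intro a b h
    rw [pow_succ, Matrix.mul_apply]
    refine Finset.sum_eq_zero fun c _ => ?_
    rcases lt_or_ge (lev c) (lev a + k) with hc | hc
    · rw [ih a c hc, zero_mul]
    · rw [hN c b (by omega), mul_zero]

theorem pow_nine_eq_one {U : Matrix I7 I7 (ZMod 3)}
    (hU : ∀ a b, lev b ≤ lev a → (U - 1) a b = 0) : U ^ 9 = 1 := by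
  have h5 : (U - 1) ^ 5 = 0 := by
    ext a b
    exact pow_lev hU 5 a b (lt_of_lt_of_le (lev_lt b) (Nat.le_add_left 5 _))
  have h9 : (U - 1) ^ 9 = 0 := by rw [show 9 = 5 + 4 from rfl, pow_add, h5, zero_mul]
  have : Fact (Nat.Prime 3) := ⟨by norm_num⟩
  have h := sub_pow_char_pow_of_commute (p := 3) (n := 2) (Commute.one_right U)
  rw [one_pow] at h
  exact sub_eq_zero.1 (h.symm.trans h9)

theorem col_polar (g : O7) (p q : I7) :
    QuadraticMap.polar (⇑Q7) (fun c => mat Q7 g c p) (fun c => mat Q7 g c q)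
      = QuadraticMap.polar (⇑Q7) (Pi.single p 1) (Pi.single q 1) := by
  have e : ∀ r, mat Q7 g *ᵥ Pi.single r 1 = fun c => mat Q7 g c r := fun r => by
    funext c
    rw [Matrix.mulVec_single_one]
    rfl
  rw [← e, ← e]
  exact polar_mulVec Q7 g _ _

/-- An element carrying the nilpotent part of the fifth representative to the mixed one keeps the
flag and has level part given by one of the tables. -/
theorem shape (g : O7) (t s u : ZMod 3) (ht : t = -s) (hs : s ≠ 0)
    (h : mat Q7 g * Matrix.of (nilFun 1 1 2) = Matrix.of (nilFun t s u) * mat Q7 g) :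
    ∃ e a b c d, e ≠ 0 ∧ a * d - b * c = s ∧
      ∀ p q, lev q ≤ lev p → mat Q7 g p q = baseFun t s e a b c d p q := by
  set M := mat Q7 g with hM
  have hss : s * s = 1 := (by decide : ∀ s : ZMod 3, s ≠ 0 → s * s = 1) s hs
  have ht0 : t ≠ 0 := by rw [ht]; exact neg_ne_zero.2 hs
  have htt : t * t = 1 := by rw [ht, neg_mul_neg, hss]
  have E : ∀ p q, (M * Matrix.of (nilFun 1 1 2)) p q = (Matrix.of (nilFun t s u) * M) p q :=
    fun p q => by rw [h]
  simp only [Matrix.mul_apply, Matrix.of_apply, Fintype.sum_sum_type, Fintype.sum_unique,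
    Fin.sum_univ_three] at E
  have P := col_polar g
  rw [← hM] at P
  simp only [CfsgLib.StdForms.polar_odd, Fin.sum_univ_three] at P
  -- the first half is kept
  have yx : ∀ i j, M (iy i) (ix j) = 0 := by
    intro i j
    fin_cases j
    · have e := E (iy i) (iy 1); fin_cases i <;> simpa [nilFun] using e
    · have e := E (iy i) (iy 0); fin_cases i <;> simpa [nilFun] using e
    · have e := E (iy i) iz; fin_cases i <;> simpa [nilFun] using e
  have zx : ∀ j, M iz (ix j) = 0 := by
    intro j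
    have e := P (ix j) (ix j)
    simp only [yx, mul_zero, add_zero] at e
    have e' : 2 * (M iz (ix j) * M iz (ix j)) = 0 := by
      rw [e]; fin_cases j <;> simp
    exact mul_self_eq_zero.1 ((mul_eq_zero.1 e').resolve_left two_ne_zero3)
  -- the row of the middle index
  have y3 : ∀ q, t * M (iy 2) q = ∑ c, M iz c * nilFun 1 1 2 c q := by
    intro q
    have e := E iz q
    simp only [Fintype.sum_sum_type, Fintype.sum_unique, Fin.sum_univ_three]
    refine Eq.trans ?_ e.symm
    simp [nilFun]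
  have y3z : M (iy 2) iz = 0 := by
    have e := y3 iz
    simp [nilFun, Fintype.sum_sum_type, zx, ht0] at e
    exact e
  have y30 : M (iy 2) (iy 0) = 0 := by
    have e := y3 (iy 0)
    simp [nilFun, Fintype.sum_sum_type, zx, ht0] at e
    exact e
  have y31 : M (iy 2) (iy 1) = 0 := by
    have e := y3 (iy 1)
    simp [nilFun, Fintype.sum_sum_type, zx, ht0] at e
    exact e
  have y32 : M (iy 2) (iy 2) = t * M iz iz := by
    have e := y3 (iy 2)
    simp [nilFun, Fintype.sum_sum_type, zx] at e
    linear_combination t * e - M (iy 2) (iy 2) * htt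
  -- the rows of the first half
  have x02 : M (ix 0) (ix 2) = -(s * M (iy 1) iz) := by
    have e := E (ix 0) iz; simpa [nilFun] using e
  have x01 : M (ix 0) (ix 1) = -(s * M (iy 1) (iy 0)) := by
    have e := E (ix 0) (iy 0); simpa [nilFun] using e
  have x00 : M (ix 0) (ix 0) = s * M (iy 1) (iy 1) := by
    have e := E (ix 0) (iy 1); simpa [nilFun] using e
  have x12 : M (ix 1) (ix 2) = s * M (iy 0) iz := by
    have e := E (ix 1) iz; simpa [nilFun] using e
  have x11 : M (ix 1) (ix 1) = s * M (iy 0) (iy 0) := by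
    have e := E (ix 1) (iy 0); simpa [nilFun] using e
  have x10 : M (ix 1) (ix 0) = -(s * M (iy 0) (iy 1)) := by
    have e := E (ix 1) (iy 1); simp [nilFun] at e; linear_combination -e
  have x22 : M (ix 2) (ix 2) = t * M iz iz := by
    have e := E (ix 2) iz; simpa [nilFun, y3z] using e
  -- the determinant of the block
  have hd : M (ix 0) (ix 0) * M (ix 1) (ix 1) - M (ix 0) (ix 1) * M (ix 1) (ix 0) = s := by
    have e := P (ix 0) (iy 0)
    simp [yx, zx, y30] at e
    rw [x00, x11, x01, x10]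
    rw [x00, x10] at e
    linear_combination s * e
  have k0 : M (ix 0) (ix 0) * M (iy 0) iz + M (ix 1) (ix 0) * M (iy 1) iz = 0 := by
    have e := P (ix 0) iz
    simpa [yx, zx, y3z] using e
  have k1 : M (ix 0) (ix 1) * M (iy 0) iz + M (ix 1) (ix 1) * M (iy 1) iz = 0 := by
    have e := P (ix 1) iz
    simpa [yx, zx, y3z] using e
  have y0z : M (iy 0) iz = 0 := by
    linear_combination s * M (ix 1) (ix 1) * k0 - s * M (ix 1) (ix 0) * k1
      - s * M (iy 0) iz * hd - M (iy 0) iz * hss
  have y1z : M (iy 1) iz = 0 := by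
    linear_combination s * M (ix 0) (ix 0) * k1 - s * M (ix 0) (ix 1) * k0
      - s * M (iy 1) iz * hd - M (iy 1) iz * hss
  have hzz : M iz iz ≠ 0 := by
    intro h0
    have e := P iz iz
    simp [h0, y0z, y1z, y3z] at e
    exact absurd e.symm two_ne_zero3
  refine ⟨M iz iz, M (ix 0) (ix 0), M (ix 0) (ix 1), M (ix 1) (ix 0), M (ix 1) (ix 1), hzz, hd, ?_⟩
  have h00 : M (iy 1) (iy 1) = s * M (ix 0) (ix 0) := by
    rw [x00]; linear_combination -M (iy 1) (iy 1) * hss
  have h11 : M (iy 0) (iy 0) = s * M (ix 1) (ix 1) := by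
    rw [x11]; linear_combination -M (iy 0) (iy 0) * hss
  have h01 : M (iy 1) (iy 0) = -(s * M (ix 0) (ix 1)) := by
    rw [x01]; linear_combination -M (iy 1) (iy 0) * hss
  have h10 : M (iy 0) (iy 1) = -(s * M (ix 1) (ix 0)) := by
    rw [x10]; linear_combination -M (iy 0) (iy 1) * hss
  have x02' : M (ix 0) (ix 2) = 0 := by rw [x02, y1z, mul_zero, neg_zero]
  have x12' : M (ix 1) (ix 2) = 0 := by rw [x12, y0z, mul_zero]
  rintro (⟨⟨⟩⟩ | p | p) (⟨⟨⟩⟩ | q | q) hle
  all_goals (try fin_cases p) <;> (try fin_cases q)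
  all_goals
    first
      | (exfalso; revert hle; decide)
      | simp [baseFun, yx, zx, y3z, y0z, y1z, y30, y31, y32, x22, h00, h11, h01, h10, x02', x12']

/-- No element conjugates the fifth representative to a generator of the group of the sixth. -/
theorem split_step {g : G7} {R : G7} {u : ZMod 3} {s : ZMod 3} (hs : s ≠ 0)
    (hR : ∀ p q : I7, toM R p q = (if p = q then 1 else 0) + nilFun (-s) s u p q)
    (h : g * rep 4 = R * g) : False := by
  have hR4 : toM (rep 4) = 1 + Matrix.of (nilFun 1 1 2) := by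
    ext p q
    rw [rep, toM_elem (el_rep 4).1, Matrix.add_apply, Matrix.one_apply, Matrix.of_apply]
    exact nil_rep.1 p q
  have hR' : toM R = 1 + Matrix.of (nilFun (-s) s u) := by
    ext p q
    rw [Matrix.add_apply, Matrix.one_apply, Matrix.of_apply]
    exact hR p q
  have e := congrArg toM h
  rw [map_mul, map_mul, hR4, hR', Matrix.mul_add, Matrix.add_mul, mul_one, one_mul] at e
  obtain ⟨z, a, b, c, d, hz, hdet, hB⟩ := shape g.1 (-s) s u rfl hs (add_left_cancel e)
  obtain ⟨hv, hnot, hokD, hD⟩ := outer_ok s z hs hz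
  obtain ⟨w, -, hw⟩ := List.any_eq_true.1 (word_ok s z a b c d hs hz hdet)
  simp only [Bool.and_eq_true, beq_iff_eq, List.all_eq_true, Bool.or_eq_true, Bool.not_eq_true']
    at hw
  obtain ⟨hPB, hblk⟩ := hw
  have hv' : ∀ v ∈ outer s z, Q7 v ≠ 0 := fun v hm => by
    rw [CfsgLib.StdForms.oddQ_apply]; exact hv v hm
  obtain ⟨δ, hδ⟩ := exists_isReflProd_list _ hv'
  have hδM : mat Q7 δ = toMat (outerC s z) := by
    rw [hδ.2, ← hD]
    refine congrArg List.prod (List.map_congr_left fun v _ => ?_)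
    rw [CfsgLib.StdForms.coe_oddQ]
  have hW : El (evalC gens18 w) := El.eval el_gens18 w
  set X := elem (evalC gens18 w) * g with hX
  have hbase : toMat (baseC (-s) s z a b c d) = Matrix.of (baseFun (-s) s z a b c d) := by
    ext p q
    exact toMat_baseC s z a b c d p q
  set P := toMat (mulC (outerC s z) (evalC gens18 w)) with hP
  have hokB : okM (baseC (-s) s z a b c d) = true :=
    (by decide +kernel : ∀ s e a b c d : ZMod 3, okM (baseC (-s) s e a b c d) = true) s z a b c d
  have hPB' : P * Matrix.of (baseFun (-s) s z a b c d) = 1 := by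
    rw [hP, ← hbase, ← toMat_mul _ hokB, hPB, toMat_one]
  have hPlev : ∀ p q, lev p ≠ lev q → P p q = 0 := by
    intro p q hpq
    have h' := (hblk (pos p) (by have := pos_lt p; simp [pos7]; omega) (pos q)
      (by have := pos_lt q; simp [pos7]; omega)).resolve_left hpq
    simp [hP, toMat, rowVal, h'.1, h'.2, -List.getD_eq_getElem?_getD]
  have hU : mat Q7 (δ * X.1) = P * toM g := by
    rw [mat_mul, hδM, hP, toMat_mul _ hW.1, Matrix.mul_assoc]
    congr 1
    show toM X = _
    rw [hX, map_mul, toM_elem hW]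
  have h9 : (δ * X.1) ^ 9 = 1 := by
    have hlev : ∀ p q, lev q ≤ lev p → (P * toM g - 1) p q = 0 := by
      intro p q hpq
      rw [← hPB', ← Matrix.mul_sub, Matrix.mul_apply]
      refine Finset.sum_eq_zero fun r _ => ?_
      by_cases hr : lev p = lev r
      · rw [Matrix.sub_apply, Matrix.of_apply, show toM g r q = mat Q7 g.1 r q from rfl,
          hB r q (hr ▸ hpq), sub_self, mul_zero]
      · rw [hPlev p r hr, zero_mul]
    refine Subtype.ext (Units.ext ?_)
    rw [SubgroupClass.coe_pow, Units.val_pow_eq_pow_val]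
    show mat Q7 (δ * X.1) ^ 9 = 1
    rw [hU, pow_nine_eq_one hlev]
  have hmem : δ ∈ Cfsg.Omega (ZMod 3) ⇑Q7 := by
    have := mul_mem (mem_omega_of_pow_nine h9) (inv_mem X.2)
    rwa [mul_inv_cancel_right] at this
  obtain ⟨heven, r, hr⟩ := (mem_omega_iff two_ne_zero3 nondeg7 hδ).1 hmem
  refine hnot heven r ?_
  rw [← hr]
  simp only [CfsgLib.StdForms.oddQ_apply]

theorem toM_rep5 : (∀ p q : I7, toM (rep 5) p q = (if p = q then 1 else 0) + nilFun 1 2 2 p q) ∧
    ∀ p q : I7, toM (rep 5)⁻¹ p q = (if p = q then 1 else 0) + nilFun 2 1 2 p q := by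
  obtain ⟨hE, -, h3⟩ := el_rep 5
  refine ⟨fun p q => ?_, fun p q => ?_⟩
  · rw [rep, toM_elem hE]; exact nil_rep.2.1 p q
  · rw [inv_eq_of_mul_eq_one_right h3, rep, ← elem_mul hE hE, toM_elem (hE.mul hE)]
    exact nil_rep.2.2 p q

/-- The groups of the fifth and the sixth representative are not conjugate. -/
theorem not_conj (g : G7) : g * rep 4 * g⁻¹ ≠ rep 5 ∧ g * rep 4 * g⁻¹ ≠ (rep 5)⁻¹ := by
  refine ⟨fun h => ?_, fun h => ?_⟩
  · refine split_step (s := 2) (u := 2) (g := g) (R := rep 5) (by decide) ?_ (mul_inv_eq_iff_eq_mul.1 h)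
    rw [show -(2 : ZMod 3) = 1 from by decide]
    exact toM_rep5.1
  · refine split_step (s := 1) (u := 2) (g := g) (R := (rep 5)⁻¹) (by decide) ?_
      (mul_inv_eq_iff_eq_mul.1 h)
    rw [show -(1 : ZMod 3) = 2 from by decide]
    exact toM_rep5.2

end CfsgLib.OmegaSeven
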