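import Cfsg.Agent.OmegaSeven.Group

/-!
# The finite checks separating the fifth and the sixth representative
-/

set_option autoImplicit false

namespace CfsgLib.OmegaSeven

open Matrix

/-- The middle index. -/
abbrev iz : I7 := Sum.inl ()

/-- The first half. -/
abbrev ix (i : Fin 3) : I7 := Sum.inr (Sum.inl i)

/-- The second half. -/
abbrev iy (i : Fin 3) : I7 := Sum.inr (Sum.inr i)

/-- The level of a position in the flag fixed by an element of the fifth class. -/
def levN : ℕ → ℕ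
  | 0 => 2
  | 1 => 1
  | 2 => 1
  | 3 => 0
  | 4 => 3
  | 5 => 3
  | _ => 4

/-- The level of an index. -/
def lev (a : I7) : ℕ := levN (pos a)

theorem lev_lt : ∀ a, lev a < 5 := by decide

/-- The nilpotent parts of the representatives. -/
def nilFun (t s u : ZMod 3) : I7 → I7 → ZMod 3
  | Sum.inl _, Sum.inr (Sum.inr 2) => t
  | Sum.inr (Sum.inl 0), Sum.inr (Sum.inr 1) => -s
  | Sum.inr (Sum.inl 1), Sum.inr (Sum.inr 0) => s
  | Sum.inr (Sum.inl 2), Sum.inl _ => t
  | Sum.inr (Sum.inl 2), Sum.inr (Sum.inr 2) => u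
  | _, _ => 0

/-- The part of a matrix commuting with them that keeps the levels. -/
def baseFun (t s e a b c d : ZMod 3) : I7 → I7 → ZMod 3
  | Sum.inl _, Sum.inl _ => e
  | Sum.inr (Sum.inl 0), Sum.inr (Sum.inl 0) => a
  | Sum.inr (Sum.inl 0), Sum.inr (Sum.inl 1) => b
  | Sum.inr (Sum.inl 1), Sum.inr (Sum.inl 0) => c
  | Sum.inr (Sum.inl 1), Sum.inr (Sum.inl 1) => d
  | Sum.inr (Sum.inl 2), Sum.inr (Sum.inl 2) => t * e
  | Sum.inr (Sum.inr 0), Sum.inr (Sum.inr 0) => s * d
  | Sum.inr (Sum.inr 0), Sum.inr (Sum.inr 1) => -(s * c)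
  | Sum.inr (Sum.inr 1), Sum.inr (Sum.inr 0) => -(s * b)
  | Sum.inr (Sum.inr 1), Sum.inr (Sum.inr 1) => s * a
  | Sum.inr (Sum.inr 2), Sum.inr (Sum.inr 2) => t * e
  | _, _ => 0

/-- One entry. -/
def rw1 (j : ℕ) (v : ZMod 3) : Row := if v = 1 then (2 ^ j, 0) else if v = 2 then (0, 2 ^ j) else (0, 0)

/-- Its code. -/
def baseC (t s e a b c d : ZMod 3) : List Row :=
  [rw1 0 e, addR (rw1 1 a) (rw1 2 b), addR (rw1 1 c) (rw1 2 d), rw1 3 (t * e),
    addR (rw1 4 (s * d)) (rw1 5 (-(s * c))), addR (rw1 4 (-(s * b))) (rw1 5 (s * a)), rw1 6 (t * e)]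

theorem toMat_baseC : ∀ s e a b c d : ZMod 3, ∀ p q : I7,
    rowVal ((baseC (-s) s e a b c d).getD (pos p) (0, 0)) (pos q) = baseFun (-s) s e a b c d p q := by
  decide +kernel

theorem nil_rep : (∀ p q : I7, rowVal ((repC.getD 4 ([], [])).1.getD (pos p) (0, 0)) (pos q)
      = (if p = q then 1 else 0) + nilFun 1 1 2 p q) ∧
    (∀ p q : I7, rowVal ((repC.getD 5 ([], [])).1.getD (pos p) (0, 0)) (pos q)
      = (if p = q then 1 else 0) + nilFun 1 2 2 p q) ∧
    ∀ p q : I7, rowVal ((mulC (repC.getD 5 ([], [])).1 (repC.getD 5 ([], [])).1).getD (pos p) (0, 0))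
        (pos q) = (if p = q then 1 else 0) + nilFun 2 1 2 p q := by
  decide +kernel

/-- The unit vector at an index. -/
def unitVec (p : I7) : I7 → ZMod 3 := Pi.single p 1

/-- Vectors whose reflections multiply to an element outside the group. -/
def outer (s e : ZMod 3) : List (I7 → ZMod 3) :=
  let v1 := [unitVec (ix 0) + unitVec (iy 0), unitVec (ix 0) - unitVec (iy 0)]
  let v3 := [unitVec (ix 2) + unitVec (iy 2), unitVec (ix 2) - unitVec (iy 2)]
  if e = 1 then (if s = 1 then v3 else v1)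
  else if s = 1 then [unitVec iz] else v1 ++ v3 ++ [unitVec iz]

/-- Their codes. -/
def outerC (s e : ZMod 3) : List Row :=
  let z : Row := if e = 1 then (1, 0) else (0, 1)
  if (s = 1 ∧ e = 1) then [z, (2, 0), (4, 0), (0, 8), (16, 0), (32, 0), (0, 64)]
  else if e = 1 then [z, (0, 2), (4, 0), (8, 0), (0, 16), (32, 0), (64, 0)]
  else if s = 1 then [z, (2, 0), (4, 0), (8, 0), (16, 0), (32, 0), (64, 0)]
  else [z, (0, 2), (4, 0), (0, 8), (0, 16), (32, 0), (0, 64)]

theorem outer_ok : ∀ s e : ZMod 3, s ≠ 0 → e ≠ 0 →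
    (∀ v ∈ outer s e, Cfsg.quadFormOdd 3 (ZMod 3) v ≠ 0) ∧
    (Even (outer s e).length → ∀ r : ZMod 3,
      ((outer s e).map (fun v => Cfsg.quadFormOdd 3 (ZMod 3) v)).prod ≠ r * r) ∧
    okM (outerC s e) = true ∧
    ((outer s e).map fun v => Cfsg.reflectionMatrix (Cfsg.quadFormOdd 3 (ZMod 3)) v).prod
      = toMat (outerC s e) := by
  decide +kernel

/-- Words in the root elements of the Levi part on two pairs. -/
def words : List (List ℕ) :=
  (List.range 81).map fun n => List.replicate (n % 3) 6 ++ List.replicate (n / 3 % 3) 15 ++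
    List.replicate (n / 9 % 3) 6 ++ List.replicate (n / 27 % 3) 15

theorem word_ok : ∀ s e a b c d : ZMod 3, s ≠ 0 → e ≠ 0 → a * d - b * c = s →
    (words.any fun w =>
      mulC (mulC (outerC s e) (evalC gens18 w)) (baseC (-s) s e a b c d) == oneC &&
        pos7.all fun i => pos7.all fun j => levN i == levN j ||
          (!((mulC (outerC s e) (evalC gens18 w)).getD i (0, 0)).1.testBit j &&
            !((mulC (outerC s e) (evalC gens18 w)).getD i (0, 0)).2.testBit j)) = true := by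
  decide +kernel

end CfsgLib.OmegaSeven
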